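import Cfsg.Agent.SporFischer.ComponentM22
import Cfsg.Agent.SporFischer.LiftsU62
import Cfsg.Agent.Components.Basic

/-!
Groups with an involution whose centralizer is a double cover of `PSU(6,4)`: the property, its invariance
under isomorphisms, and the class of 3-transpositions of type M(22) that it gives.
-/

set_option autoImplicit false
set_option linter.unusedSectionVars false
set_option linter.style.haveILetI false

universe v w

namespace CfsgLib.LargeFischerE

open Cfsg

/-- An involution whose centralizer is quasisimple over `PSU(6,4)` and which is not weakly closed in it. -/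
def HasU62 (W : Type v) [Group W] : Prop :=
  ∃ d : W, orderOf d = 2 ∧ Cfsg.IsQuasisimple ↥(Subgroup.centralizer ({d} : Set W)) ∧
    (∃ (K : Type) (_ : Field K) (_ : Fintype K), Fintype.card K = 4 ∧
      ∃ _ : ((Subgroup.zpowers d).subgroupOf (Subgroup.centralizer ({d} : Set W))).Normal,
        Nonempty (↥(Subgroup.centralizer ({d} : Set W)) ⧸
          (Subgroup.zpowers d).subgroupOf (Subgroup.centralizer ({d} : Set W)) ≃* Cfsg.PSU 6 K 2)) ∧
    ∃ g : W, g * d * g⁻¹ ∈ Subgroup.centralizer ({d} : Set W) ∧ g * d * g⁻¹ ≠ d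

variable {W : Type v} [Group W] {W' : Type w} [Group W']

/-- An isomorphism between the centralizers. -/
def singletonEquiv (f : W ≃* W') (x : W) :
    ↥(Subgroup.centralizer ({x} : Set W)) ≃* ↥(Subgroup.centralizer ({f x} : Set W')) where
  toFun a := ⟨f a, Subgroup.mem_centralizer_singleton_iff.2 (by
    rw [← map_mul, Subgroup.mem_centralizer_singleton_iff.1 a.2, map_mul])⟩
  invFun b := ⟨f.symm b, Subgroup.mem_centralizer_singleton_iff.2 (f.injective (by
    rw [map_mul, map_mul, f.apply_symm_apply, Subgroup.mem_centralizer_singleton_iff.1 b.2]))⟩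
  left_inv a := Subtype.ext (f.symm_apply_apply _)
  right_inv b := Subtype.ext (f.apply_symm_apply _)
  map_mul' a b := Subtype.ext (map_mul f _ _)

theorem singletonEquiv_map_zpowers (f : W ≃* W') (x : W) :
    ((Subgroup.zpowers x).subgroupOf (Subgroup.centralizer ({x} : Set W))).map (singletonEquiv f x).toMonoidHom =
      (Subgroup.zpowers (f x)).subgroupOf (Subgroup.centralizer ({f x} : Set W')) := by
  refine Subgroup.ext fun y => ⟨?_, fun hy => ?_⟩
  · rintro ⟨a, ha, rfl⟩
    obtain ⟨k, hk⟩ := Subgroup.mem_zpowers_iff.1 (Subgroup.mem_subgroupOf.1 ha)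
    exact Subgroup.mem_subgroupOf.2 (Subgroup.mem_zpowers_iff.2 ⟨k, by
      show f x ^ k = f a
      rw [← map_zpow, hk]⟩)
  · obtain ⟨k, hk⟩ := Subgroup.mem_zpowers_iff.1 (Subgroup.mem_subgroupOf.1 hy)
    refine ⟨⟨x ^ k, Subgroup.zpow_mem _ (Subgroup.mem_centralizer_singleton_iff.2 rfl) k⟩,
      Subgroup.mem_subgroupOf.2 (Subgroup.mem_zpowers_iff.2 ⟨k, rfl⟩), Subtype.ext ?_⟩
    show f (x ^ k) = y
    rw [map_zpow, hk]

theorem zpowers_normal (x : W) :
    ((Subgroup.zpowers x).subgroupOf (Subgroup.centralizer ({x} : Set W))).Normal := by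
  refine ⟨fun a ha g => ?_⟩
  rw [Subgroup.mem_subgroupOf] at ha ⊢
  obtain ⟨k, hk⟩ := Subgroup.mem_zpowers_iff.1 ha
  have hc : Commute (g : W) (a : W) :=
    hk ▸ (show Commute (g : W) x from Subgroup.mem_centralizer_singleton_iff.1 g.2).zpow_right k
  show (g : W) * a * (g : W)⁻¹ ∈ _
  rwa [hc.eq, mul_inv_cancel_right]

theorem HasU62.congr (f : W ≃* W') (h : HasU62 W) : HasU62 W' := by
  obtain ⟨d, hd, hq, ⟨K, iK, iF, hK, hn, ⟨e⟩⟩, g, hg1, hg2⟩ := h
  haveI := zpowers_normal (f d)
  refine ⟨f d, (f.orderOf_eq d).trans hd, CfsgLib.Components.isQuasisimple_congr (singletonEquiv f d) hq,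
    ⟨K, iK, iF, hK, inferInstance,
      ⟨(QuotientGroup.congr _ _ (singletonEquiv f d) (singletonEquiv_map_zpowers f d)).symm.trans e⟩⟩,
    f g, ?_, fun e' => hg2 (f.injective (by rw [map_mul, map_mul, map_inv]; exact e'))⟩
  rw [← map_inv, ← map_mul, ← map_mul, Subgroup.mem_centralizer_singleton_iff, ← map_mul, ← map_mul]
  exact congrArg f (Subgroup.mem_centralizer_singleton_iff.1 hg1)

theorem HasU62.exists_class [Finite W] (h : HasU62 W) :
    ∃ E : Set W, Cfsg.IsThreeTranspositionClass E ∧ Cfsg.IsOfTypeM22 W E := by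
  obtain ⟨d, hd, hq, ⟨K, iK, iF, hK, hn, ⟨e⟩⟩, hnwc⟩ := h
  obtain ⟨M⟩ := CfsgLib.SporFischer.exists_u62Data hd hq K hK e hnwc
  exact ⟨_, M.conclusion hd hq K hK e⟩

end CfsgLib.LargeFischerE
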