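import Cfsg.Agent.LargeFischerE.Fi22.Transfer
import Cfsg.Agent.FischerTypes.M24Triple
import Cfsg.Agent.Balance.Sections
import Cfsg.Agent.Components.Basic
import Cfsg.Agent.Fi22Out.Out
import Cfsg.Agent.CosetEnum.Fi22Order.Order
import Cfsg.Agent.S1713
import Cfsg.Agent.LargeFischerE.Fi22.TransClass

/-!
The centralizer of `t` modulo `⟨t⟩` is the automorphism group of `Fi₂₂`: the kernel of the sign is, modulo `⟨t⟩`,
a group with an involution whose centralizer is a double cover of `PSU(6,4)`.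
-/

set_option autoImplicit false
set_option linter.unusedSectionVars false
set_option linter.style.haveILetI false
set_option maxHeartbeats 1000000

universe v

namespace CfsgLib.LargeFischerE

open Cfsg CfsgLib.LargeFischer
open scoped commutatorElement

/-- The conclusion at an involution. -/
def ConclFi22 {G : Type v} [Group G] (t : G) : Prop :=
  ∀ [((Subgroup.zpowers t).subgroupOf (Subgroup.centralizer ({t} : Set G))).Normal],
    Cfsg.IsQuasisimple ↥(Cfsg.generalizedFittingSubgroup ↥(Subgroup.centralizer ({t} : Set G))) ∧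
      (Cfsg.generalizedFittingSubgroup ↥(Subgroup.centralizer ({t} : Set G))).index = 2 ∧
      (∃ htc : t ∈ Subgroup.centralizer ({t} : Set G), (⟨t, htc⟩ : ↥(Subgroup.centralizer ({t} : Set G))) ∈
        Cfsg.generalizedFittingSubgroup ↥(Subgroup.centralizer ({t} : Set G))) ∧
      Nonempty (↥(Subgroup.centralizer ({t} : Set G)) ⧸
        (Subgroup.zpowers t).subgroupOf (Subgroup.centralizer ({t} : Set G)) ≃* MulAut Cfsg.Spor.Fi22)

/-- The kernel modulo the involution is the simple group. -/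
def ConclKer {G : Type v} [Group G] (t : G) : Prop :=
  ∀ [((Subgroup.zpowers t).subgroupOf (Subgroup.centralizer ({t} : Set G))).Normal],
    Nonempty (↥((Cfsg.generalizedFittingSubgroup ↥(Subgroup.centralizer ({t} : Set G))).map
      (QuotientGroup.mk' ((Subgroup.zpowers t).subgroupOf (Subgroup.centralizer ({t} : Set G))))) ≃*
        Cfsg.Spor.Fi22) ∧ HasU62 Cfsg.Spor.Fi22

theorem card_mulAut_Fi22 : Nat.card (MulAut Cfsg.Spor.Fi22) = 2 * Nat.card Cfsg.Spor.Fi22 := by
  have := CfsgLib.CosetEnum.Fi22.isSimpleGroup_Fi22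
  have hinj : Function.Injective (MulAut.conj : Cfsg.Spor.Fi22 →* MulAut Cfsg.Spor.Fi22) := by
    rw [← MonoidHom.ker_eq_bot_iff, eq_bot_iff]
    intro g hg
    have hcen : g ∈ Subgroup.center Cfsg.Spor.Fi22 := Subgroup.mem_center_iff.2 fun k => by
      have h := DFunLike.congr_fun (MonoidHom.mem_ker.1 hg) k
      simp only [MulAut.conj_apply, MulAut.one_apply] at h
      exact (mul_inv_eq_iff_eq_mul.1 h).symm
    rcases (inferInstance : (Subgroup.center Cfsg.Spor.Fi22).Normal).eq_bot_or_eq_top with h | h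
    · rwa [h] at hcen
    · exfalso
      have hc : IsMulCommutative Cfsg.Spor.Fi22 := Subgroup.center_eq_top_iff.1 h
      haveI : Finite Cfsg.Spor.Fi22 := Nat.finite_of_card_ne_zero (by
        rw [CfsgLib.CosetEnum.Fi22.card_Fi22]; norm_num)
      letI : CommGroup Cfsg.Spor.Fi22 :=
        { (inferInstance : Group Cfsg.Spor.Fi22) with mul_comm := hc.is_comm.comm }
      have hp := IsSimpleGroup.prime_card (α := Cfsg.Spor.Fi22)
      rw [CfsgLib.CosetEnum.Fi22.card_Fi22] at hp
      norm_num at hp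
  have h1 := Subgroup.card_eq_card_quotient_mul_card_subgroup (Cfsg.Inn Cfsg.Spor.Fi22)
  rw [show Nat.card (MulAut Cfsg.Spor.Fi22 ⧸ Cfsg.Inn Cfsg.Spor.Fi22) = 2 from CfsgLib.Fi22Out.card_out_Fi22] at h1
  rw [h1]
  congr 1
  exact Nat.card_congr (MonoidHom.ofInjective hinj).symm.toEquiv

variable {G : Type v} [Group G] [Finite G] {z : G} {Q : Subgroup (Cz z)} [Q.Normal] {D : Data z Q} {C : Coords D}
  {T1 : Sylow 2 (Cz z)} {B : Subgroup (Cz z)}

theorem Pair.concl_both (rec : RecU62.{v}) (hA : LargeFischerJ.Anchor C T1 B) (P : Pair C)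
    [hn : ((Subgroup.zpowers P.tG).subgroupOf (Subgroup.centralizer ({P.tG} : Set G))).Normal] :
    (Cfsg.IsQuasisimple ↥(Cfsg.generalizedFittingSubgroup ↥(Subgroup.centralizer ({P.tG} : Set G))) ∧
      (Cfsg.generalizedFittingSubgroup ↥(Subgroup.centralizer ({P.tG} : Set G))).index = 2 ∧
      (∃ htc : P.tG ∈ Subgroup.centralizer ({P.tG} : Set G),
        (⟨P.tG, htc⟩ : ↥(Subgroup.centralizer ({P.tG} : Set G))) ∈
          Cfsg.generalizedFittingSubgroup ↥(Subgroup.centralizer ({P.tG} : Set G))) ∧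
      Nonempty (↥(Subgroup.centralizer ({P.tG} : Set G)) ⧸
        (Subgroup.zpowers P.tG).subgroupOf (Subgroup.centralizer ({P.tG} : Set G)) ≃* MulAut Cfsg.Spor.Fi22)) ∧
    Nonempty (↥((Cfsg.generalizedFittingSubgroup ↥(Subgroup.centralizer ({P.tG} : Set G))).map
      (QuotientGroup.mk' ((Subgroup.zpowers P.tG).subgroupOf (Subgroup.centralizer ({P.tG} : Set G))))) ≃*
        Cfsg.Spor.Fi22) ∧ HasU62 Cfsg.Spor.Fi22 := by
  classical
  obtain ⟨V, hEC, ⟨m, hmu, hVm⟩, ⟨n, hnu, hVn⟩⟩ := exists_sign rec hA P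
  obtain ⟨hqs, hcen, ⟨e⟩⟩ := P.ec_facts rec hA
  obtain ⟨ht, hu, htu, htz, -, -⟩ := P.others_facts hA
  have hz1 : z ≠ 1 := hA.layer.z_ne
  have ht1 : P.tG ≠ 1 := ht.2.1
  set Zt := (Subgroup.zpowers P.tG).subgroupOf P.Ct with hZt
  set q := QuotientGroup.mk' Zt with hq
  have hECle : P.EC ≤ P.Ct := fun g hg => Subgroup.mem_centralizer_singleton_iff.2 (P.mem_EC_iff.1 hg).1
  have hcommt : ∀ g : P.Ct, P.tG * (g : G) = (g : G) * P.tG := fun g =>
    (Subgroup.mem_centralizer_singleton_iff.1 g.2).symm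
  have hZmem : ∀ g : P.Ct, q g = 1 ↔ (g : G) = 1 ∨ (g : G) = P.tG := by
    intro g
    rw [hq, QuotientGroup.mk'_apply, QuotientGroup.eq_one_iff, hZt, Subgroup.mem_subgroupOf]
    constructor
    · intro h
      obtain ⟨k, hk⟩ := Subgroup.mem_zpowers_iff.1 h
      have h2 : P.tG ^ (2 : ℤ) = 1 := by rw [zpow_two, P.tG_sq]
      rcases Int.even_or_odd' k with ⟨j, rfl | rfl⟩
      · exact Or.inl (by rw [← hk, zpow_mul, h2, one_zpow])
      · exact Or.inr (by rw [← hk, zpow_add, zpow_mul, h2, one_zpow, one_mul, zpow_one])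
    · rintro (h | h) <;> rw [h]
      exacts [one_mem _, Subgroup.mem_zpowers _]
  have hqeq : ∀ g k : P.Ct, q g = q k ↔ (k : G) = g ∨ (k : G) = g * P.tG := by
    intro g k
    rw [show q g = q k ↔ q (g⁻¹ * k) = 1 by rw [map_mul, map_inv, inv_mul_eq_one], hZmem]
    simp only [Subgroup.coe_mul, Subgroup.coe_inv, inv_mul_eq_iff_eq_mul, mul_one]
  set X := V.ker with hX
  have hVs : Function.Surjective V := fun b => by
    rcases bit_cases b with rfl | rfl
    exacts [⟨1, map_one V⟩, ⟨m, hVm⟩]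
  have hXidx : X.index = 2 := by
    rw [hX, Subgroup.index_ker, MonoidHom.range_eq_top.2 hVs, Subgroup.card_top,
      show Nat.card Bit = 2 by simp [Bit, Nat.card_zmod]]
  have hECX : ∀ g : P.Ct, (g : G) ∈ P.EC → g ∈ X := fun g hg => MonoidHom.mem_ker.2 (hEC g hg)
  have huEC : P.uG ∈ P.EC := P.E_le_EC (P.toG_mem_E.2 (Or.inr (Or.inr (Or.inl rfl))))
  have htEC : P.tG ∈ P.EC := P.E_le_EC (P.toG_mem_E.2 (Or.inr (Or.inl rfl)))
  set uC : P.Ct := ⟨P.uG, hECle huEC⟩ with huC
  set X2 := X.map q with hX2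
  haveI hX2n : X2.Normal := Subgroup.Normal.map inferInstance q (QuotientGroup.mk'_surjective _)
  set d : X2 := ⟨q uC, uC, hECX _ huEC, rfl⟩ with hd
  -- fixing the image of `u`
  have hfixu : ∀ g : P.Ct, Commute (q g) (q uC) →
      (g : G) ∈ P.EC ∨ (g : G) * P.uG * (g : G)⁻¹ = P.tG * P.uG := by
    intro g hg
    have h1 : q (g * uC) = q (uC * g) := by rw [map_mul, map_mul]; exact hg.eq
    rcases (hqeq _ _).1 h1 with h | h
    · exact Or.inl (P.mem_EC_iff.2 ⟨Subgroup.mem_centralizer_singleton_iff.1 g.2, h.symm⟩)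
    · right
      have h' : P.uG * (g : G) = (g : G) * P.uG * P.tG := h
      rw [mul_inv_eq_iff_eq_mul]
      calc (g : G) * P.uG = (g : G) * P.uG * P.tG * P.tG := by rw [mul_assoc _ P.tG, P.tG_sq, mul_one]
        _ = P.uG * (g : G) * P.tG := by rw [h']
        _ = P.uG * (P.tG * (g : G)) := by rw [hcommt g, mul_assoc]
        _ = P.tG * P.uG * (g : G) := by rw [← mul_assoc, P.tG_comm_uG.eq]
  have hfixX : ∀ g : P.Ct, g ∈ X → Commute (q g) (q uC) → (g : G) ∈ P.EC := by
    intro g hgX hg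
    refine (hfixu g hg).resolve_right fun h => ?_
    have hk : ((m⁻¹ * g : P.Ct) : G) ∈ P.EC := P.mem_EC_iff.2
      ⟨Subgroup.mem_centralizer_singleton_iff.1 (m⁻¹ * g : P.Ct).2, by
        show (m : G)⁻¹ * (g : G) * P.uG = P.uG * ((m : G)⁻¹ * (g : G))
        calc (m : G)⁻¹ * (g : G) * P.uG = (m : G)⁻¹ * ((g : G) * P.uG * (g : G)⁻¹) * (g : G) := by group
          _ = (m : G)⁻¹ * ((m : G) * P.uG * (m : G)⁻¹) * (g : G) := by rw [h, hmu]
          _ = _ := by group⟩
    have := hEC _ hk
    rw [map_mul, MonoidHom.mem_ker.1 hgX, mul_one, map_inv, hVm] at this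
    revert this
    decide
  -- the centralizer of the image
  let π0 : P.EC →* P.Ct ⧸ Zt := q.comp (Subgroup.inclusion hECle)
  have hmem2 : ∀ g : P.EC, π0 g ∈ X2 := fun g => ⟨_, hECX _ g.2, rfl⟩
  let π1 : P.EC →* X2 := π0.codRestrict X2 hmem2
  have hmem3 : ∀ g : P.EC, π1 g ∈ Subgroup.centralizer ({d} : Set X2) := fun g => by
    rw [Subgroup.mem_centralizer_singleton_iff]
    refine Subtype.ext ?_
    show q (Subgroup.inclusion hECle g) * q uC = q uC * q (Subgroup.inclusion hECle g)
    rw [← map_mul, ← map_mul]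
    exact congrArg q (Subtype.ext (P.mem_EC_iff.1 g.2).2)
  set C0 := Subgroup.centralizer ({d} : Set X2) with hC0
  let π : P.EC →* ↥(Subgroup.centralizer ({d} : Set X2)) := π1.codRestrict _ hmem3
  have hπ : Function.Surjective π := by
    rintro ⟨⟨_, g, hgX, rfl⟩, hg⟩
    have hg' : Commute (q g) (q uC) := congrArg Subtype.val (Subgroup.mem_centralizer_singleton_iff.1 hg)
    exact ⟨⟨g, hfixX g hgX hg'⟩, rfl⟩
  have hd1 : d ≠ 1 := fun h => by
    rcases (hZmem uC).1 (congrArg Subtype.val h) with h | h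
    · exact hu.2.1 h
    · exact htu.2.1 (by rw [show P.uG = P.tG from h, P.tG_sq])
  have hd2 : d * d = 1 := Subtype.ext (by
    show q uC * q uC = 1
    rw [← map_mul, show uC * uC = 1 from Subtype.ext P.uG_sq, map_one])
  have hπd : ∀ g : P.EC, (π g : X2) ∈ Subgroup.zpowers d ↔ (g : G) ∈ P.E := by
    intro g
    constructor
    · intro h
      obtain ⟨k, hk⟩ := Subgroup.mem_zpowers_iff.1 h
      have hk' : (π g : X2) = 1 ∨ (π g : X2) = d := by
        have h2 : d ^ (2 : ℤ) = 1 := by rw [zpow_two, hd2]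
        rcases Int.even_or_odd' k with ⟨j, rfl | rfl⟩
        · exact Or.inl (by rw [← hk, zpow_mul, h2, one_zpow])
        · exact Or.inr (by rw [← hk, zpow_add, zpow_mul, h2, one_zpow, one_mul, zpow_one])
      rcases hk' with hk' | hk'
      · rcases (hZmem _).1 (congrArg Subtype.val hk') with h | h
        · have : (g : G) = 1 := h
          rw [this]; exact one_mem _
        · have : (g : G) = P.tG := h
          rw [this]; exact P.toG_mem_E.2 (Or.inr (Or.inl rfl))
      · rcases (hqeq _ _).1 (congrArg Subtype.val hk').symm with h | h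
        · have : (g : G) = P.uG := h
          rw [this]; exact P.toG_mem_E.2 (Or.inr (Or.inr (Or.inl rfl)))
        · have : (g : G) = P.uG * P.tG := h
          rw [this, ← P.tG_comm_uG.eq, ← Pair.toG_mul]
          exact P.toG_mem_E.2 (Or.inr (Or.inr (Or.inr rfl)))
    · intro h
      obtain ⟨w, hw, e'⟩ := h
      have e'' : (g : G) = toG w := e'.symm
      have hcase : (π g : X2) = 1 ∨ (π g : X2) = d := by
        rcases P.mem_Eq.1 hw with rfl | rfl | rfl | rfl
        · exact Or.inl (Subtype.ext ((hZmem _).2 (Or.inl (e''.trans (map_one (qIncl Q))))))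
        · exact Or.inl (Subtype.ext ((hZmem _).2 (Or.inr e'')))
        · exact Or.inr (Subtype.ext ((hqeq _ _).2 (Or.inl e''.symm)))
        · refine Or.inr (Subtype.ext ((hqeq uC _).2 (Or.inr ?_)).symm)
          show (g : G) = P.uG * P.tG
          rw [e'', Pair.toG_mul]
          exact P.tG_comm_uG.eq
      rcases hcase with h | h <;> rw [h]
      exacts [one_mem _, Subgroup.mem_zpowers d]
  haveI hZn : ((Subgroup.zpowers d).subgroupOf C0).Normal := ⟨fun a ha g => by
    rw [Subgroup.mem_subgroupOf] at ha ⊢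
    obtain ⟨k, hk⟩ := Subgroup.mem_zpowers_iff.1 ha
    have hc : Commute (g : X2) (a : X2) :=
      hk ▸ (show Commute (g : X2) d from Subgroup.mem_centralizer_singleton_iff.1 g.2).zpow_right k
    show (g : X2) * a * (g : X2)⁻¹ ∈ _
    rwa [hc.eq, mul_inv_cancel_right]⟩
  let φ : P.EC →* C0 ⧸ (Subgroup.zpowers d).subgroupOf C0 := (QuotientGroup.mk' _).comp π
  have hφ : Function.Surjective φ := (QuotientGroup.mk'_surjective _).comp hπ
  have hφker : φ.ker = P.E.subgroupOf P.EC := by
    ext g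
    rw [MonoidHom.mem_ker, MonoidHom.comp_apply, QuotientGroup.mk'_apply, QuotientGroup.eq_one_iff,
      Subgroup.mem_subgroupOf, Subgroup.mem_subgroupOf]
    exact hπd g
  let eU : C0 ⧸ (Subgroup.zpowers d).subgroupOf C0 ≃* Cfsg.PSU 6 CfsgLib.Linear.GF4 2 :=
    ((QuotientGroup.quotientKerEquivOfSurjective φ hφ).symm.trans
      (QuotientGroup.quotientMulEquivOfEq hφker)).trans e
  have hperf : commutator C0 = ⊤ := by
    have h := congrArg (Subgroup.map π) hqs.1.commutator_eq_top
    rwa [commutator_def, Subgroup.map_commutator, Subgroup.map_top_of_surjective π hπ, ← commutator_def] at h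
  have hdC : d ∈ C0 := Subgroup.mem_centralizer_singleton_iff.2 rfl
  have hC0cen : Subgroup.center C0 = (Subgroup.zpowers d).subgroupOf C0 := by
    refine le_antisymm (fun a ha => ?_) fun a ha => Subgroup.mem_center_iff.2 fun g => Subtype.ext ?_
    · obtain ⟨g, rfl⟩ := hπ a
      rw [Subgroup.mem_subgroupOf, hπd]
      rcases CfsgLib.Components.IsQuasisimple.normal_eq_top_or_le_center hqs ((Subgroup.center C0).comap π) with
        h | h
      · exfalso
        have hab : ∀ a b : C0, a * b = b * a := fun a b => by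
          obtain ⟨b', rfl⟩ := hπ b
          exact Subgroup.mem_center_iff.1 (Subgroup.mem_comap.1 (h ▸ Subgroup.mem_top b')) a
        have hbot : commutator C0 = ⊥ := eq_bot_iff.2 (by
          rw [commutator_def, Subgroup.commutator_le]
          intro a _ b _
          exact Subgroup.mem_bot.2 (commutatorElement_eq_one_iff_mul_comm.2 (hab a b)))
        rw [hperf] at hbot
        have : (⟨d, hdC⟩ : C0) ∈ (⊥ : Subgroup C0) := hbot ▸ Subgroup.mem_top _
        exact hd1 (congrArg Subtype.val (Subgroup.mem_bot.1 this))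
      · exact Subgroup.mem_subgroupOf.1 (hcen ▸ h ha)
    · obtain ⟨k, hk⟩ := Subgroup.mem_zpowers_iff.1 (Subgroup.mem_subgroupOf.1 ha)
      show (g : X2) * a = a * g
      rw [← hk]
      exact ((show Commute (g : X2) d from Subgroup.mem_centralizer_singleton_iff.1 g.2).zpow_right k).eq
  haveI hsimpU : IsSimpleGroup (Cfsg.PSU 6 CfsgLib.Linear.GF4 2) :=
    CfsgLib.Forms4.isSimpleGroup_PSU (by rw [CfsgLib.Linear.card_gf4]; norm_num) 6 (by norm_num) (by simp)
  have hqC0 : Cfsg.IsQuasisimple C0 := by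
    refine ⟨⟨hperf⟩, ?_⟩
    haveI : IsSimpleGroup (C0 ⧸ (Subgroup.zpowers d).subgroupOf C0) := eU.isSimpleGroup
    exact (QuotientGroup.quotientMulEquivOfEq hC0cen).isSimpleGroup
  have hnwc : ∃ g : X2, g * d * g⁻¹ ∈ C0 ∧ g * d * g⁻¹ ≠ d := by
    have himg : q n * q uC * (q n)⁻¹ = q (n * uC * n⁻¹) := by rw [map_mul, map_mul, map_inv]
    refine ⟨⟨q n, n, MonoidHom.mem_ker.2 hVn, rfl⟩, Subgroup.mem_centralizer_singleton_iff.2 (Subtype.ext ?_),
      fun h => ?_⟩
    · show q n * q uC * (q n)⁻¹ * q uC = q uC * (q n * q uC * (q n)⁻¹)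
      rw [himg, ← map_mul, ← map_mul]
      refine congrArg q (Subtype.ext ?_)
      show (n : G) * P.uG * (n : G)⁻¹ * P.uG = P.uG * ((n : G) * P.uG * (n : G)⁻¹)
      rw [hnu]
      exact ((P.tG_comm_uG.mul_left ((Commute.refl P.uG).mul_left (Pair.z_comm_toG P.u)))).eq
    · have h' : q (n * uC * n⁻¹) = q uC := himg.symm.trans (congrArg Subtype.val h)
      rcases (hqeq uC _).1 h'.symm with h1 | h1 <;>
        simp only [Subgroup.coe_mul, Subgroup.coe_inv, show (uC : G) = P.uG from rfl, hnu] at h1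
      · refine htz.2.1 ?_
        rw [← mul_assoc, P.tG_comm_uG.eq, mul_assoc] at h1
        exact mul_eq_left.1 h1
      · rw [← mul_assoc, P.tG_comm_uG.eq] at h1
        exact hz1 (mul_eq_left.1 h1)
  obtain ⟨f⟩ := Cfsg.Agent.S1713.result d (orderOf_eq_prime (by rw [pow_two, hd2]) hd1) hqC0
    CfsgLib.Linear.GF4 CfsgLib.Linear.card_gf4 eU hnwc
  haveI := CfsgLib.CosetEnum.Fi22.isSimpleGroup_Fi22
  haveI hX2s : IsSimpleGroup X2 := f.isSimpleGroup
  have hX2c : Subgroup.center X2 = ⊥ := by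
    rcases (inferInstance : (Subgroup.center X2).Normal).eq_bot_or_eq_top with h | h
    · exact h
    exfalso
    have hbot : commutator C0 = ⊥ := eq_bot_iff.2 (by
      rw [commutator_def, Subgroup.commutator_le]
      intro a _ b _
      exact Subgroup.mem_bot.2 (commutatorElement_eq_one_iff_mul_comm.2 (Subtype.ext
        (Subgroup.mem_center_iff.1 (h ▸ Subgroup.mem_top (b : X2)) (a : X2)))))
    rw [hperf] at hbot
    have : (⟨d, hdC⟩ : C0) ∈ (⊥ : Subgroup C0) := hbot ▸ Subgroup.mem_top _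
    exact hd1 (congrArg Subtype.val (Subgroup.mem_bot.1 this))
  -- the kernel is quasisimple
  let qX : X →* X2 := q.subgroupMap X
  have hqX : Function.Surjective qX := q.subgroupMap_surjective X
  have hXcen : Subgroup.center X = qX.ker := by
    refine le_antisymm (fun a ha => ?_) fun a ha => ?_
    · have h1 : qX a ∈ Subgroup.center X2 := Subgroup.mem_center_iff.2 fun b => by
        obtain ⟨c, rfl⟩ := hqX b
        rw [← map_mul, ← map_mul, Subgroup.mem_center_iff.1 ha c]
      rwa [hX2c, Subgroup.mem_bot] at h1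
    · refine Subgroup.mem_center_iff.2 fun b => Subtype.ext (Subtype.ext ?_)
      show ((b : P.Ct) : G) * ((a : P.Ct) : G) = ((a : P.Ct) : G) * ((b : P.Ct) : G)
      rcases (hZmem (a : P.Ct)).1 (congrArg Subtype.val (MonoidHom.mem_ker.1 ha)) with h | h <;> rw [h]
      · simp
      · exact (hcommt (b : P.Ct)).symm
  haveI hXsimp : IsSimpleGroup (X ⧸ qX.ker) := (QuotientGroup.quotientKerEquivOfSurjective qX hqX).isSimpleGroup
  have hXperf : commutator X = ⊤ := by
    have htop : commutator X2 = ⊤ := by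
      rcases (inferInstance : (commutator X2).Normal).eq_bot_or_eq_top with h | h
      · exfalso
        refine hd1 (Subgroup.mem_bot.1 (hX2c ▸ Subgroup.mem_center_iff.2 fun b => ?_))
        have : ⁅b, d⁆ ∈ commutator X2 := Subgroup.commutator_mem_commutator (Subgroup.mem_top _) (Subgroup.mem_top _)
        rw [h, Subgroup.mem_bot] at this
        exact commutatorElement_eq_one_iff_mul_comm.1 this
      · exact h
    have hECX' : P.EC.subgroupOf P.Ct ≤ X := fun g hg => hECX g (Subgroup.mem_subgroupOf.1 hg)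
    have htX : qX.ker ≤ commutator X := by
      intro a ha
      rcases (hZmem (a : P.Ct)).1 (congrArg Subtype.val (MonoidHom.mem_ker.1 ha)) with h | h
      · rw [show a = 1 from Subtype.ext (Subtype.ext h)]; exact one_mem _
      let ι : P.EC →* X := (Subgroup.inclusion hECle).codRestrict X fun g => hECX _ g.2
      have hle : (commutator P.EC).map ι ≤ commutator X := by
        rw [commutator_def, commutator_def, Subgroup.map_commutator]
        exact Subgroup.commutator_mono le_top le_top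
      rw [hqs.1.commutator_eq_top] at hle
      have : ι ⟨P.tG, htEC⟩ = a := Subtype.ext (Subtype.ext h.symm)
      exact this ▸ hle ⟨_, Subgroup.mem_top _, rfl⟩
    rw [eq_top_iff]
    intro a _
    have : qX a ∈ (commutator X).map qX := by
      rw [commutator_def, Subgroup.map_commutator, Subgroup.map_top_of_surjective qX hqX, ← commutator_def, htop]
      trivial
    obtain ⟨c, hc, ec⟩ := this
    have h2 : c⁻¹ * a ∈ qX.ker := by rw [MonoidHom.mem_ker, map_mul, map_inv, ec, inv_mul_cancel]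
    simpa using mul_mem hc (htX h2)
  have hXqs : Cfsg.IsQuasisimple X := by
    refine ⟨⟨hXperf⟩, ?_⟩
    exact (QuotientGroup.quotientMulEquivOfEq hXcen).isSimpleGroup
  have hXC : Subgroup.centralizer (X : Set P.Ct) ≤ X := fun g hg =>
    hECX g (P.mem_EC_iff.2 ⟨Subgroup.mem_centralizer_singleton_iff.1 g.2,
      (congrArg Subtype.val (Subgroup.mem_centralizer_iff.1 hg uC (hECX uC huEC))).symm⟩)
  have hF : Cfsg.generalizedFittingSubgroup P.Ct = X :=
    CfsgLib.FischerTypes.generalizedFitting_eq_of_quasisimple X hXqs hXC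
  have hU : HasU62 X2 := ⟨d, orderOf_eq_prime (by rw [pow_two, hd2]) hd1, hqC0,
    ⟨CfsgLib.Linear.GF4, inferInstance, inferInstance, CfsgLib.Linear.card_gf4, hZn, ⟨eU⟩⟩, hnwc⟩
  refine ⟨⟨hF ▸ hXqs, hF ▸ hXidx, ⟨hECle htEC, hF ▸ hECX _ htEC⟩, ?_⟩,
    ⟨(MulEquiv.subgroupCongr (congrArg (Subgroup.map q) hF)).trans f⟩, hU.congr f⟩
  -- the action on the simple group
  let act : P.Ct ⧸ Zt →* MulAut X2 := MulAut.conjNormal
  have hinj : Function.Injective act := by
    rw [← MonoidHom.ker_eq_bot_iff, eq_bot_iff]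
    intro y hy
    obtain ⟨g, rfl⟩ := QuotientGroup.mk'_surjective Zt y
    have hcomm : ∀ b : X2, Commute (q g) (b : P.Ct ⧸ Zt) := fun b => by
      have h := congrArg Subtype.val (DFunLike.congr_fun (MonoidHom.mem_ker.1 hy) b)
      simp only [act, MulAut.one_apply, MulAut.conjNormal_apply] at h
      exact mul_inv_eq_iff_eq_mul.1 h
    rcases hfixu g (hcomm d) with h | h
    · have h1 : (⟨q g, g, hECX g h, rfl⟩ : X2) ∈ Subgroup.center X2 :=
        Subgroup.mem_center_iff.2 fun b => Subtype.ext (hcomm b).eq.symm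
      rw [hX2c, Subgroup.mem_bot] at h1
      exact Subgroup.mem_bot.2 (congrArg Subtype.val h1)
    · exfalso
      have hmove : ∀ k : P.EC, (g : G) * (k : G) * (g : G)⁻¹ * (k : G)⁻¹ ∈ P.E := by
        intro k
        have hk : Commute (q g) (q ⟨(k : G), hECle k.2⟩) := hcomm ⟨_, ⟨_, hECX _ k.2, rfl⟩⟩
        have h1 : q (g * ⟨(k : G), hECle k.2⟩) = q (⟨(k : G), hECle k.2⟩ * g) := by
          rw [map_mul, map_mul]; exact hk.eq
        rcases (hqeq _ _).1 h1 with h2 | h2 <;> simp only [Subgroup.coe_mul] at h2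
        · rw [← h2]; simp
        · rw [show (g : G) * (k : G) = (k : G) * (g : G) * P.tG by rw [h2, mul_assoc _ P.tG, P.tG_sq, mul_one],
            mul_assoc ((k : G) * (g : G)), show P.tG * (g : G)⁻¹ = (g : G)⁻¹ * P.tG from
              ((show Commute P.tG (g : G) from hcommt g).inv_right).eq, ← mul_assoc, mul_inv_cancel_right,
            (P.mem_EC_iff.1 k.2).1, mul_inv_cancel_right]
          exact P.toG_mem_E.2 (Or.inr (Or.inl rfl))
      have hnorm : ∀ k : P.EC, (g : G) * (k : G) * (g : G)⁻¹ ∈ P.EC := fun k => by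
        have := mul_mem (P.E_le_EC (hmove k)) k.2
        rwa [inv_mul_cancel_right] at this
      let α : P.EC →* P.EC :=
        { toFun := fun k => ⟨_, hnorm k⟩
          map_one' := Subtype.ext (by simp)
          map_mul' := fun a b => Subtype.ext (by simp only [Subgroup.coe_mul]; group) }
      have hfix := congrArg Subtype.val (CfsgLib.FischerTypes.fixed_of_central_moves hqs α
        (fun k => by rw [hcen, Subgroup.mem_subgroupOf]; exact hmove k) ⟨P.uG, huEC⟩)
      have hfix' : (g : G) * P.uG * (g : G)⁻¹ = P.uG := hfix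
      exact ht1 (mul_eq_right.1 (h.symm.trans hfix'))
  have hcard : Nat.card (P.Ct ⧸ Zt) = Nat.card (MulAut Cfsg.Spor.Fi22) := by
    rw [card_mulAut_Fi22, ← Nat.card_congr f.toEquiv, ← Subgroup.index_mul_card X2]
    congr 1
    rw [hX2, Subgroup.index_map_eq _ (QuotientGroup.mk'_surjective _) ?_, hXidx]
    intro a ha
    rcases (hZmem a).1 (MonoidHom.mem_ker.1 ha) with h | h
    · rw [show a = 1 from Subtype.ext h]; exact one_mem _
    · exact hECX a (h ▸ htEC)
  haveI : Finite (MulAut Cfsg.Spor.Fi22) := Nat.finite_of_card_ne_zero (by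
    rw [← hcard]; exact Nat.card_pos.ne')
  let Φ : P.Ct ⧸ Zt →* MulAut Cfsg.Spor.Fi22 := (MulAut.congr f).toMonoidHom.comp act
  exact ⟨MulEquiv.ofBijective Φ ((Nat.bijective_iff_injective_and_card Φ).2
    ⟨(MulAut.congr f).injective.comp hinj, hcard⟩)⟩

theorem Pair.concl (rec : RecU62.{v}) (hA : LargeFischerJ.Anchor C T1 B) (P : Pair C) : ConclFi22 P.tG := by
  intro hn
  exact (P.concl_both rec hA).1

theorem Pair.concl_ker (rec : RecU62.{v}) (hA : LargeFischerJ.Anchor C T1 B) (P : Pair C) : ConclKer P.tG := by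
  intro hn
  exact (P.concl_both rec hA).2

end CfsgLib.LargeFischerE
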