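import Cfsg.Agent.LargeFischerE.Fi22.Pairing
import Cfsg.Agent.LargeFischerE.Move

/-!
The pairs of points of `t`, `u`, `tu`, `uz`, `tuz`, and the parity with which the stabiliser of `t` in the
normalizer permutes the two points of `t`.
-/

set_option autoImplicit false
set_option linter.unusedSectionVars false
set_option linter.style.haveILetI false
set_option maxHeartbeats 1000000

namespace CfsgLib.LargeFischerE

open Cfsg CfsgLib.LargeFischer

variable {G : Type*} [Group G] [Finite G] {z : G} {Q : Subgroup (Cz z)} [Q.Normal] {D : Data z Q} {C : Coords D}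

/-- The elementary abelian group in the whole group. -/
abbrev Ag (B : Subgroup (Cz z)) : Subgroup G := B.map (Cz z).subtype

namespace Pair

variable (P : Pair C)

/-- The first involution in the group. -/
abbrev tG : G := toG P.t

/-- The second involution in the group. -/
abbrev uG : G := toG P.u

theorem tG_sq : P.tG * P.tG = 1 := (congrArg (qIncl Q) P.t_sq).trans (map_one _)

theorem uG_sq : P.uG * P.uG = 1 := (congrArg (qIncl Q) P.u_sq).trans (map_one _)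

theorem tG_comm_uG : Commute P.tG P.uG :=
  congrArg (qIncl Q) (P.tu_comm.eq : P.t * P.u = P.u * P.t)

theorem z_comm_toG (q : Q) : Commute z (toG q) := (Subgroup.mem_centralizer_singleton_iff.1 (q : Cz z).2).symm

theorem zin_toG (D : Data z Q) : toG (zin D.hS) = z := rfl

theorem toG_mul (q r : Q) : toG (q * r) = toG q * toG r := map_mul (qIncl Q) q r

/-- The stabiliser of the involution in the normalizer. -/
abbrev St (B : Subgroup (Cz z)) : Subgroup G :=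
  Subgroup.normalizer (Ag B : Set G) ⊓ Subgroup.centralizer ({P.tG} : Set G)

variable {T1 : Sylow 2 (Cz z)} {B : Subgroup (Cz z)}

theorem others_of_vec (hA : LargeFischerJ.Anchor C T1 B) {q : Q} {a : W} (ha : a ≠ 0)
    (hq : vec q = D1 C.F a) : toG q ∈ LargeFischerJ.Layer.others z (Ag B) := by
  refine ⟨⟨(q : Cz z), (hA.memQ q).2 ?_, rfl⟩, fun e => ?_, not_isConj_of_inA C (hq ▸ D1_inA C ha)⟩
  · rw [hq, LargeFischerJ.mem_planeS, coord_D1]
    exact ⟨rfl, rfl, rfl⟩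
  · refine D1_ne_zero C ha ?_
    rw [← hq, show q = 1 from qIncl_injective Q (e.trans (map_one _).symm), vec_one]

theorem vec_mul_zin (q : Q) : vec (q * zin D.hS) = vec q := by
  rw [vec_mul, (vec_eq_zero D.hS).2 ((mem_center_cases D.hS).2 (Or.inr rfl)), add_zero]

theorem others_facts (hA : LargeFischerJ.Anchor C T1 B) : P.tG ∈ LargeFischerJ.Layer.others z (Ag B) ∧
    P.uG ∈ LargeFischerJ.Layer.others z (Ag B) ∧ P.tG * P.uG ∈ LargeFischerJ.Layer.others z (Ag B) ∧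
    P.tG * z ∈ LargeFischerJ.Layer.others z (Ag B) ∧ P.uG * z ∈ LargeFischerJ.Layer.others z (Ag B) ∧
    P.tG * (P.uG * z) ∈ LargeFischerJ.Layer.others z (Ag B) := by
  refine ⟨others_of_vec hA (by decide) P.ht, others_of_vec hA (by decide) P.hu, ?_, ?_, ?_, ?_⟩
  · rw [← toG_mul]
    exact others_of_vec hA (by decide) P.vec_mul_tu
  · rw [show P.tG * z = toG (P.t * zin D.hS) by rw [toG_mul, zin_toG D]]
    exact others_of_vec hA (by decide) ((vec_mul_zin (D := D) _).trans P.ht)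
  · rw [show P.uG * z = toG (P.u * zin D.hS) by rw [toG_mul, zin_toG D]]
    exact others_of_vec hA (by decide) ((vec_mul_zin (D := D) _).trans P.hu)
  · rw [show P.tG * (P.uG * z) = toG (P.t * P.u * zin D.hS) by rw [toG_mul, toG_mul, zin_toG D, mul_assoc]]
    exact others_of_vec hA (by decide) ((vec_mul_zin (D := D) _).trans P.vec_mul_tu)

/-- An element of `Q` fixing `t` and moving `u` to `uz`, of order two. -/
theorem exists_flip (hA : LargeFischerJ.Anchor C T1 B) : ∃ x : G, x ∈ P.St B ∧ x ∈ Cz z ∧ x * x = 1 ∧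
    x * P.uG * x⁻¹ = P.uG * z := by
  obtain ⟨q, hq1, hq2⟩ := P.exists_q 0 1
  have hqu : conjIn (q : Cz z) P.u = P.u * zin D.hS := by rw [Pair.conjIn_q (D := D), hq2, zp_one]
  have hqt : conjIn (q : Cz z) P.t = P.t := by rw [Pair.conjIn_q (D := D), hq1, zp_zero, mul_one]
  have h1 : toG q * P.tG * (toG q)⁻¹ = P.tG := by
    have := congrArg (fun a : Q => toG a) hqt
    rwa [conjIn_toG] at this
  have h2 : toG q * P.uG * (toG q)⁻¹ = P.uG * z := by
    have := congrArg (fun a : Q => toG a) hqu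
    rwa [conjIn_toG, toG_mul, zin_toG D] at this
  have hz2 : z * z = 1 := by
    rw [← pow_two, ← D.hS.1, pow_orderOf_eq_one]
  have hmem : ∀ r : Q, Commute (toG r) P.tG → toG r ∈ P.St B := fun r hr =>
    ⟨(hA.layer.R_le (mem_inG.2 ⟨r, rfl⟩)).1, Subgroup.mem_centralizer_singleton_iff.2 hr.eq⟩
  have hqc : Commute (toG q) P.tG := mul_inv_eq_iff_eq_mul.1 h1
  have hzu : Commute z P.uG := z_comm_toG P.u
  -- the square is a power of `z`
  have hsq : toG q * toG q = 1 ∨ toG q * toG q = z := by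
    have : q * q ∈ Subgroup.center Q := (vec_eq_zero D.hS).1 (by rw [vec_mul, QV_two D.hS])
    rcases (mem_center_cases D.hS).1 this with e | e
    · exact Or.inl (by rw [← toG_mul, e]; exact map_one (qIncl Q))
    · exact Or.inr (by rw [← toG_mul, e]; exact zin_toG D)
  rcases hsq with hsq | hsq
  · exact ⟨toG q, hmem q hqc, (q : Cz z).2, hsq, h2⟩
  · refine ⟨toG (q * P.u), hmem _ ?_, ((q * P.u : Q) : Cz z).2, ?_, ?_⟩
    · rw [toG_mul]; exact hqc.mul_left P.tG_comm_uG.symm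
    · rw [toG_mul]
      have e : toG q * P.uG = P.uG * z * toG q := mul_inv_eq_iff_eq_mul.1 h2
      calc toG q * P.uG * (toG q * P.uG) = toG q * P.uG * (P.uG * z * toG q) := by rw [← e]
        _ = toG q * (P.uG * P.uG) * z * toG q := by group
        _ = toG q * (z * toG q) := by rw [P.uG_sq, mul_one, mul_assoc]
        _ = toG q * (toG q * z) := by rw [(z_comm_toG q).eq]
        _ = 1 := by rw [← mul_assoc, hsq, hz2]
    · rw [toG_mul]
      calc toG q * P.uG * P.uG * (toG q * P.uG)⁻¹ = toG q * (P.uG * P.uG) * P.uG⁻¹ * (toG q)⁻¹ := by group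
        _ = toG q * P.uG * (toG q)⁻¹ := by rw [P.uG_sq, mul_one, inv_eq_of_mul_eq_one_right P.uG_sq]
        _ = P.uG * z := h2

end Pair

/-- The pairs of points of the distinguished elements. -/
structure Marks (P : Pair C) (B : Subgroup (Cz z)) where
  /-- the pairs -/
  Pg : Pairing (Ag B) (LargeFischerJ.Layer.others z (Ag B))
  a : GolayPt
  b : GolayPt
  c : GolayPt
  d : GolayPt
  hab : a ≠ b
  hac : a ≠ c
  hbc : b ≠ c
  had : a ≠ d
  hbd : b ≠ d
  hcd : c ≠ d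
  pt : Pg.p P.tG = {a, b}
  pu : Pg.p P.uG = {a, c}
  ptu : Pg.p (P.tG * P.uG) = {b, c}
  puz : Pg.p (P.uG * z) = {b, d}
  ptuz : Pg.p (P.tG * (P.uG * z)) = {a, d}
  odd : Nat.card (orb (P.St B) (P.tG * z)) = 231

variable (P : Pair C) {T1 : Sylow 2 (Cz z)} {B : Subgroup (Cz z)}

theorem exists_marks (hA : LargeFischerJ.Anchor C T1 B) : Nonempty (Marks P B) := by
  classical
  obtain ⟨Pg⟩ := exists_pairing hA.layer
  obtain ⟨ht, hu, htu, htz, huz, htuz⟩ := P.others_facts hA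
  have L := hA.layer
  set A := Ag B with hAdef
  set S := LargeFischerJ.Layer.others z A with hSdef
  set N := Subgroup.normalizer (A : Set G) with hN
  set St := P.St B with hSt
  have hz1 : z ≠ 1 := L.z_ne
  have hzA : z ∉ S := fun h => h.2.2 (IsConj.refl z)
  have hfix : ∀ {m : G}, m ∈ St → m * P.tG * m⁻¹ = P.tG := fun {m} hm =>
    mul_inv_eq_iff_eq_mul.2 (Subgroup.mem_centralizer_singleton_iff.1 hm.2)
  -- the orbit of `tz`
  have horb : 276 * Nat.card (orb St (P.tG * z)) = 1771 * Nat.card (orb (N ⊓ Cz z) P.tG) := by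
    have e1 := card_orb_mul N P.tG
    have e2 := card_orb_mul St (P.tG * z)
    have e3 := card_orb_mul (N ⊓ Cz z) P.tG
    rw [show orb N P.tG = S from Set.Subset.antisymm
      (by rintro _ ⟨m, hm, rfl⟩; exact Pg.closed m hm _ ht)
      (fun c hc => L.others_transitive ht hc), show Nat.card S = 276 from L.card_others] at e1
    have hTT : St ⊓ Subgroup.centralizer ({P.tG * z} : Set G) =
        (N ⊓ Cz z) ⊓ Subgroup.centralizer ({P.tG} : Set G) := by
      ext c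
      simp only [hSt, Pair.St, Subgroup.mem_inf, Subgroup.mem_centralizer_singleton_iff]
      constructor
      · rintro ⟨⟨hc, h1⟩, h2⟩
        refine ⟨⟨hc, ?_⟩, h1⟩
        rw [← mul_assoc, h1, mul_assoc, mul_assoc] at h2
        exact mul_left_cancel h2
      · rintro ⟨⟨hc, h2⟩, h1⟩
        exact ⟨⟨hc, h1⟩, by rw [← mul_assoc, h1, mul_assoc, h2, ← mul_assoc]⟩
    rw [hTT] at e2
    have hN' : Nat.card N = 1771 * Nat.card (N ⊓ Cz z : Subgroup G) := by
      rw [L.cardN, hN, L.card_normalizer, L.main.1]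
    have hpos : 0 < Nat.card ((N ⊓ Cz z) ⊓ Subgroup.centralizer ({P.tG} : Set G) : Subgroup G) := Nat.card_pos
    refine Nat.eq_of_mul_eq_mul_right hpos ?_
    rw [mul_assoc, e2, mul_assoc, e3, ← hN', ← e1]
  -- choose the points
  obtain ⟨a₀, b₀, hab₀, pt₀⟩ := Finset.card_eq_two.1 (Pg.card_p _ ht)
  have himg : ∀ {m : G} (hm : m ∈ St),
      ({a₀, b₀} : Finset GolayPt).image (Pg.ψ ⟨m, hm.1⟩ : Equiv.Perm GolayPt) = {a₀, b₀} := by
    intro m hm
    rw [← pt₀, ← Pg.equiv m hm.1 _ ht, hfix hm]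
  -- a pair disjoint from that of `t` is in the orbit of any other such
  have hdisjoint : ∀ v ∈ S, Disjoint (Pg.p v) {a₀, b₀} → ∀ q : Finset GolayPt, q.card = 2 →
      Disjoint q {a₀, b₀} → ∃ w ∈ orb St v, Pg.p w = q := by
    intro v hv hd q hq hqd
    obtain ⟨x, y, hxy, hp⟩ := Finset.card_eq_two.1 (Pg.card_p v hv)
    obtain ⟨x', y', hxy', rfl⟩ := Finset.card_eq_two.1 hq
    rw [hp, Finset.disjoint_left] at hd
    rw [Finset.disjoint_left] at hqd
    simp only [Finset.mem_insert, Finset.mem_singleton] at hd hqd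
    obtain ⟨σ, sa, sb, sx, sy⟩ := Mathieu24Map hab₀ (a := a₀) (b := b₀) (c := x) (d := y)
      (fun e => hd (Or.inl rfl) (Or.inl e.symm)) (fun e => hd (Or.inl rfl) (Or.inr e.symm))
      (fun e => hd (Or.inr rfl) (Or.inl e.symm)) (fun e => hd (Or.inr rfl) (Or.inr e.symm)) hxy
      (c' := x') (d' := y') (fun e => hqd (Or.inl rfl) (Or.inl e.symm)) (fun e => hqd (Or.inl rfl) (Or.inr e.symm))
      (fun e => hqd (Or.inr rfl) (Or.inl e.symm)) (fun e => hqd (Or.inr rfl) (Or.inr e.symm)) hxy'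
    obtain ⟨m, hm, rfl⟩ := Pg.lift σ
    have hmt : m * P.tG * m⁻¹ = P.tG := Pg.fix_of_points hm ht pt₀ sa sb
    refine ⟨m * v * m⁻¹, ⟨m, ⟨hm, Subgroup.mem_centralizer_singleton_iff.2 (mul_inv_eq_iff_eq_mul.1 hmt)⟩, rfl⟩, ?_⟩
    rw [Pg.image_pair hm hv hp, sx, sy]
  have horbS : ∀ {v}, v ∈ S → orb St v ⊆ S := by
    rintro v hv _ ⟨m, hm, rfl⟩
    exact Pg.closed m hm.1 _ hv
  have hmeet_inv : ∀ {v w}, v ∈ S → w ∈ orb St v →
      (Disjoint (Pg.p w) {a₀, b₀} ↔ Disjoint (Pg.p v) {a₀, b₀}) := by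
    rintro v _ hv ⟨m, hm, rfl⟩
    rw [Pg.equiv m hm.1 v hv]
    conv_lhs => rw [← himg hm]
    exact Finset.disjoint_image (Equiv.injective _)
  have htz_ne : P.tG * z ≠ P.tG := fun e => hz1 (mul_eq_left.1 e)
  have htzd : Disjoint (Pg.p (P.tG * z)) {a₀, b₀} := by
    by_contra hn
    have hsub : Pg.p '' orb St (P.tG * z) ⊆
        ↑((({a₀, b₀} : Finset GolayPt) ×ˢ (({a₀, b₀} : Finset GolayPt)ᶜ)).image
          fun e => ({e.1, e.2} : Finset GolayPt)) := by
      rintro _ ⟨v, hv, rfl⟩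
      have hvS := horbS htz hv
      have hvd : ¬ Disjoint (Pg.p v) {a₀, b₀} := fun h => hn ((hmeet_inv htz hv).1 h)
      obtain ⟨x, hx1, hx2⟩ := Finset.not_disjoint_iff.1 hvd
      obtain ⟨x', y', hxy', hp⟩ := Finset.card_eq_two.1 (Pg.card_p v hvS)
      have hne : v ≠ P.tG := by
        obtain ⟨m, hm, rfl⟩ := hv
        intro e
        refine htz_ne ?_
        have e' := congrArg (fun w => m⁻¹ * w * m) e
        beta_reduce at e'
        rw [show m⁻¹ * (m * (P.tG * z) * m⁻¹) * m = P.tG * z by group] at e'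
        rw [e', mul_assoc, ← Subgroup.mem_centralizer_singleton_iff.1 hm.2, inv_mul_cancel_left]
      have key : ∀ y, Pg.p v = {x, y} → x ≠ y → Pg.p v ∈ ((({a₀, b₀} : Finset GolayPt) ×ˢ
          (({a₀, b₀} : Finset GolayPt)ᶜ)).image fun e => ({e.1, e.2} : Finset GolayPt)) := by
        intro y hy hxy
        refine Finset.mem_image.2 ⟨(x, y), Finset.mem_product.2 ⟨hx2, Finset.mem_compl.2 fun hy2 => hne ?_⟩, hy.symm⟩
        refine Pg.inj hvS ht ?_
        rw [hy, pt₀]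
        refine Finset.eq_of_subset_of_card_le ?_ (by rw [Finset.card_pair hab₀, Finset.card_pair hxy])
        intro w hw
        simp only [Finset.mem_insert, Finset.mem_singleton] at hw
        rcases hw with rfl | rfl
        exacts [hx2, hy2]
      have hx1' := hx1
      simp only [hp, Finset.mem_insert, Finset.mem_singleton] at hx1'
      rcases hx1' with rfl | rfl
      · exact key _ hp hxy'
      · exact key _ (hp.trans (Finset.pair_comm _ _)) hxy'.symm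
    have hle : Nat.card (orb St (P.tG * z)) ≤ 44 := by
      rw [Nat.card_coe_set_eq, ← Set.ncard_image_of_injOn (Pg.inj.mono (horbS htz))]
      refine (Set.ncard_le_ncard hsub (Finset.finite_toSet _)).trans ?_
      rw [Set.ncard_coe_finset]
      refine Finset.card_image_le.trans ?_
      rw [Finset.card_product, Finset.card_compl, Finset.card_pair hab₀]
      simp [GolayPt, ZMod.card]
    have hpos : 0 < Nat.card (orb St (P.tG * z)) := by
      haveI : Nonempty (orb St (P.tG * z)) := ⟨⟨_, 1, one_mem _, by group; rfl⟩⟩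
      exact Nat.card_pos
    omega
  have hodd : Nat.card (orb St (P.tG * z)) = 231 := by
    have himage : Pg.p '' orb St (P.tG * z) =
        ↑((({a₀, b₀} : Finset GolayPt)ᶜ).powersetCard 2) := by
      ext q
      simp only [Set.mem_image, Finset.mem_coe, Finset.mem_powersetCard]
      rw [show q ⊆ ({a₀, b₀} : Finset GolayPt)ᶜ ↔ Disjoint q {a₀, b₀} from le_compl_iff_disjoint_right]
      constructor
      · rintro ⟨v, hv, rfl⟩
        exact ⟨(hmeet_inv htz hv).2 htzd, Pg.card_p v (horbS htz hv)⟩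
      · rintro ⟨h1, h2⟩
        exact hdisjoint _ htz htzd q h2 h1
    rw [Nat.card_coe_set_eq, ← Set.ncard_image_of_injOn (Pg.inj.mono (horbS htz)), himage, Set.ncard_coe_finset,
      Finset.card_powersetCard, Finset.card_compl, Finset.card_pair hab₀]
    simp [GolayPt, ZMod.card, Nat.choose]
  -- the pair of `u` meets that of `t`
  obtain ⟨x, hxu, hxt⟩ := Finset.not_disjoint_iff.1 (show ¬ Disjoint (Pg.p P.uG) {a₀, b₀} from fun hn => by
    obtain ⟨w, ⟨m, hm, rfl⟩, hw⟩ := hdisjoint _ hu hn _ (Pg.card_p _ htz) htzd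
    have e : m * P.uG * m⁻¹ = P.tG * z := Pg.inj (Pg.closed m hm.1 _ hu) htz hw
    refine htu.2.2 (isConj_iff.2 ⟨m⁻¹, ?_⟩)
    rw [inv_inv]
    calc m⁻¹ * z * m = m⁻¹ * (P.tG * (P.tG * z)) * m := by rw [← mul_assoc P.tG, P.tG_sq, one_mul]
      _ = m⁻¹ * (m * P.tG * m⁻¹ * (m * P.uG * m⁻¹)) * m := by rw [hfix hm, e]
      _ = P.tG * P.uG := by group)
  obtain ⟨a, b, hab, pt, rfl⟩ : ∃ a b, a ≠ b ∧ Pg.p P.tG = {a, b} ∧ a = x := by
    simp only [Finset.mem_insert, Finset.mem_singleton] at hxt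
    rcases hxt with rfl | rfl
    exacts [⟨_, _, hab₀, pt₀, rfl⟩, ⟨_, _, hab₀.symm, pt₀.trans (Finset.pair_comm _ _), rfl⟩]
  obtain ⟨c, hac, pu⟩ : ∃ c, a ≠ c ∧ Pg.p P.uG = {a, c} := by
    obtain ⟨x', y', hxy', hp⟩ := Finset.card_eq_two.1 (Pg.card_p _ hu)
    rw [hp] at hxu
    simp only [Finset.mem_insert, Finset.mem_singleton] at hxu
    rcases hxu with rfl | rfl
    exacts [⟨_, hxy', hp⟩, ⟨_, hxy'.symm, hp.trans (Finset.pair_comm _ _)⟩]
  have hu1 : P.uG ≠ 1 := hu.2.1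
  have ht1 : P.tG ≠ 1 := ht.2.1
  have htu_ne : P.tG ≠ P.uG := fun e => htu.2.1 (by rw [← e, P.tG_sq])
  have hbc : b ≠ c := fun e => htu_ne (Pg.inj ht hu (by rw [pt, pu, e]))
  have ptu := Pg.triangle ht hu htu (fun e => hu1 (mul_eq_left.1 e)) (fun e => ht1 (mul_eq_right.1 e))
    hab hac hbc pt pu
  have prod := fun {v w : G} (hv : v ∈ S) (hw : w ∈ S) {x y y' : GolayPt} (h1 : x ≠ y) (h2 : x ≠ y')
    (h3 : y ≠ y') (pv : Pg.p v = {x, y}) (pw : Pg.p w = {x, y'}) =>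
    Pg.product ht hu htu hab hac hbc pt pu ptu hv hw h1 h2 h3 pv pw
  -- the pair of `uz`
  obtain ⟨q, hqS, -, -, hqu⟩ := P.exists_flip hA
  have hqa : ∃ y, Pg.p (P.uG * z) =
      {(Pg.ψ ⟨q, hqS.1⟩ : Equiv.Perm GolayPt) a, y} ∧
        ((Pg.ψ ⟨q, hqS.1⟩ : Equiv.Perm GolayPt) a = a ∨ (Pg.ψ ⟨q, hqS.1⟩ : Equiv.Perm GolayPt) a = b) := by
    refine ⟨_, by rw [← hqu]; exact Pg.image_pair hqS.1 hu pu, ?_⟩
    have e := Pg.image_pair hqS.1 ht pt
    rw [hfix hqS, pt] at e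
    have hmem : (Pg.ψ ⟨q, hqS.1⟩ : Equiv.Perm GolayPt) a ∈ ({a, b} : Finset GolayPt) := by
      rw [e]; exact Finset.mem_insert_self _ _
    simpa using hmem
  obtain ⟨y, puz0, hy⟩ := hqa
  have hnot : ∀ {x y' : GolayPt}, x = a ∨ x = c → Pg.p (P.uG * z) = {x, y'} → False := by
    intro x y' hx hp
    have hne : Pg.p (P.uG * z) ≠ Pg.p P.uG := fun e => hz1 (mul_eq_left.1 (Pg.inj huz hu e))
    have hcard := Pg.card_p _ huz
    have hxy : x ≠ y' := fun e => by rw [hp, e] at hcard; simp at hcard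
    have hzz : P.uG * (P.uG * z) = z := by rw [← mul_assoc, P.uG_sq, one_mul]
    rcases hx with rfl | rfl
    · have h3 : c ≠ y' := fun e => hne (by rw [hp, pu, e])
      exact hzA (hzz ▸ (prod hu huz hac hxy h3 pu hp).1)
    · have h3 : a ≠ y' := fun e => hne (by rw [hp, pu, ← e, Finset.pair_comm])
      exact hzA (hzz ▸ (prod hu huz hac.symm hxy h3 (pu.trans (Finset.pair_comm _ _)) hp).1)
  rcases hy with hy | hy <;> rw [hy] at puz0
  · exact (hnot (Or.inl rfl) puz0).elim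
  have hyb : b ≠ y := fun e => by
    have hcard := Pg.card_p _ huz
    rw [puz0, e] at hcard
    simp at hcard
  have hya : a ≠ y := fun e => hnot (Or.inl rfl) (puz0.trans (by rw [← e, Finset.pair_comm]))
  have hyc : c ≠ y := fun e => hnot (Or.inr rfl) (puz0.trans (by rw [← e, Finset.pair_comm]))
  exact ⟨⟨Pg, a, b, c, y, hab, hac, hbc, hya, hyb, hyc, pt, pu, ptu, puz0,
    (prod ht huz hab.symm hyb hya (pt.trans (Finset.pair_comm _ _)) puz0).2, hodd⟩⟩

namespace Marks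

variable {P} (M : Marks P B)

theorem perm_ab {m : G} (hm : m ∈ P.St B) (hA : LargeFischerJ.Anchor C T1 B) :
    ((M.Pg.ψ ⟨m, hm.1⟩ : Equiv.Perm GolayPt) M.a = M.a ∧ (M.Pg.ψ ⟨m, hm.1⟩ : Equiv.Perm GolayPt) M.b = M.b) ∨
    ((M.Pg.ψ ⟨m, hm.1⟩ : Equiv.Perm GolayPt) M.a = M.b ∧ (M.Pg.ψ ⟨m, hm.1⟩ : Equiv.Perm GolayPt) M.b = M.a) := by
  have e := M.Pg.image_pair hm.1 (P.others_facts hA).1 M.pt
  rw [mul_inv_eq_iff_eq_mul.2 (Subgroup.mem_centralizer_singleton_iff.1 hm.2), M.pt] at e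
  set σ := (M.Pg.ψ ⟨m, hm.1⟩ : Equiv.Perm GolayPt)
  have h1 : σ M.a ∈ ({M.a, M.b} : Finset GolayPt) := by rw [e]; simp
  have h2 : σ M.b ∈ ({M.a, M.b} : Finset GolayPt) := by rw [e]; simp
  simp only [Finset.mem_insert, Finset.mem_singleton] at h1 h2
  rcases h1 with h1 | h1 <;> rcases h2 with h2 | h2
  · exact absurd (σ.injective (h1.trans h2.symm)) M.hab
  · exact Or.inl ⟨h1, h2⟩
  · exact Or.inr ⟨h1, h2⟩
  · exact absurd (σ.injective (h1.trans h2.symm)) M.hab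

/-- The two points of `t` are fixed. -/
def Fixes (m : G) : Prop :=
  ∃ h : m ∈ Subgroup.normalizer (Ag B : Set G), (M.Pg.ψ ⟨m, h⟩ : Equiv.Perm GolayPt) M.a = M.a

theorem fixes_one : M.Fixes 1 := ⟨one_mem _, by
  rw [show (⟨1, one_mem _⟩ : ↥(Subgroup.normalizer (Ag B : Set G))) = 1 from rfl, map_one]; rfl⟩

theorem fixes_mul_iff (hA : LargeFischerJ.Anchor C T1 B) {m n : G} (hm : m ∈ P.St B) (hn : n ∈ P.St B) :
    M.Fixes (m * n) ↔ (M.Fixes m ↔ M.Fixes n) := by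
  have key : ∀ {k : G} (hk : k ∈ P.St B), M.Fixes k ↔ (M.Pg.ψ ⟨k, hk.1⟩ : Equiv.Perm GolayPt) M.a = M.a :=
    fun {k} hk => ⟨fun ⟨_, e⟩ => e, fun e => ⟨hk.1, e⟩⟩
  rw [key hm, key hn, key (mul_mem hm hn),
    show (⟨m * n, (mul_mem hm hn).1⟩ : ↥(Subgroup.normalizer (Ag B : Set G))) = ⟨m, hm.1⟩ * ⟨n, hn.1⟩ from rfl,
    map_mul, Subgroup.coe_mul, Equiv.Perm.mul_apply]
  show _ ↔ _
  rcases M.perm_ab hm hA with ⟨h1, h1'⟩ | ⟨h1, h1'⟩ <;> rcases M.perm_ab hn hA with ⟨h2, h2'⟩ | ⟨h2, h2'⟩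
  all_goals
    generalize (M.Pg.ψ ⟨m, hm.1⟩ : Equiv.Perm GolayPt) = σ at *
    generalize (M.Pg.ψ ⟨n, hn.1⟩ : Equiv.Perm GolayPt) = τ at *
    simp [h1, h1', h2, h2', M.hab, M.hab.symm]

/-- The parity of an element fixing `t` and `z` read off from the image of `u`. -/
theorem fixes_iff (hA : LargeFischerJ.Anchor C T1 B) {m : G} (hm : m ∈ P.St B)
    (hk : m * P.uG * m⁻¹ = P.uG ∨ m * P.uG * m⁻¹ = P.uG * z ∨ m * P.uG * m⁻¹ = P.tG * P.uG ∨
      m * P.uG * m⁻¹ = P.tG * (P.uG * z)) :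
    M.Fixes m ↔ (m * P.uG * m⁻¹ = P.uG ∨ m * P.uG * m⁻¹ = P.tG * (P.uG * z)) := by
  obtain ⟨ht, hu, htu, htz, huz, htuz⟩ := P.others_facts hA
  set σ := (M.Pg.ψ ⟨m, hm.1⟩ : Equiv.Perm GolayPt)
  have hp := M.Pg.image_pair hm.1 hu M.pu
  have hz1 : z ≠ 1 := hA.layer.z_ne
  have hfix : ∀ {v : G} {x y : GolayPt}, m * P.uG * m⁻¹ = v → M.Pg.p v = {x, y} → M.b ≠ x → M.b ≠ y →
      σ M.a = M.a := by
    intro v x y e hv hx hy
    rcases M.perm_ab hm hA with ⟨h, -⟩ | ⟨h, -⟩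
    · exact h
    exfalso
    have : M.b ∈ ({x, y} : Finset GolayPt) := by
      rw [← hv, ← e, hp, h]; exact Finset.mem_insert_self _ _
    simp only [Finset.mem_insert, Finset.mem_singleton] at this
    exact this.elim hx hy
  have hswap : ∀ {v : G} {x y : GolayPt}, m * P.uG * m⁻¹ = v → M.Pg.p v = {x, y} → M.a ≠ x → M.a ≠ y →
      σ M.a ≠ M.a := by
    intro v x y e hv hx hy h
    have : M.a ∈ ({x, y} : Finset GolayPt) := by
      rw [← hv, ← e, hp, h]; exact Finset.mem_insert_self _ _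
    simp only [Finset.mem_insert, Finset.mem_singleton] at this
    exact this.elim hx hy
  constructor
  · rintro ⟨_, h⟩
    rcases hk with e | e | e | e
    · exact Or.inl e
    · exact absurd h (hswap e M.puz M.hab M.had)
    · exact absurd h (hswap e M.ptu M.hab M.hac)
    · exact Or.inr e
  · rintro (e | e)
    · exact ⟨hm.1, hfix e M.pu M.hab.symm M.hbc⟩
    · exact ⟨hm.1, hfix e M.ptuz M.hab.symm M.hbd⟩

/-- An element swapping the points and sending `u` to `tu`. -/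
theorem exists_swap (hA : LargeFischerJ.Anchor C T1 B) :
    ∃ m ∈ P.St B, m * P.uG * m⁻¹ = P.tG * P.uG ∧ ¬ M.Fixes m := by
  obtain ⟨ht, hu, htu, -⟩ := P.others_facts hA
  obtain ⟨σ, sa, sb, sc⟩ := exists_map_three M.hab M.hac M.hbc M.hab.symm M.hbc M.hac
  obtain ⟨m, hm, rfl⟩ := M.Pg.lift σ
  have h1 : m * P.tG * m⁻¹ = P.tG := M.Pg.conj_eq hm ht ht (by
    rw [M.pt, Finset.image_insert, Finset.image_singleton, sa, sb, Finset.pair_comm])
  refine ⟨m, ⟨hm, Subgroup.mem_centralizer_singleton_iff.2 (mul_inv_eq_iff_eq_mul.1 h1)⟩, ?_, ?_⟩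
  · exact M.Pg.conj_eq hm hu htu (by rw [M.pu, M.ptu, Finset.image_insert, Finset.image_singleton, sa, sc])
  · rintro ⟨_, h⟩
    exact M.hab (h.symm.trans sa)

/-- An element fixing the points is a product of elements centralizing conjugates of `u`. -/
theorem exists_factor (hA : LargeFischerJ.Anchor C T1 B) {y : G} (hy : y ∈ P.St B) (hf : M.Fixes y) :
    ∃ r ∈ P.St B, ∃ y₁ y₂ : G, y = y₁ * y₂ ∧ y₁ ∈ P.St B ∧ y₂ ∈ P.St B ∧
      Commute y₁ (r * P.uG * r⁻¹) ∧ Commute y₂ P.uG := by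
  obtain ⟨ht, hu, -⟩ := P.others_facts hA
  obtain ⟨hy', ha⟩ := hf
  rcases M.perm_ab hy hA with ⟨-, hb⟩ | ⟨h, -⟩
  swap
  · exact absurd (h.symm.trans ha) M.hab.symm
  set c' := (M.Pg.ψ ⟨y, hy'⟩ : Equiv.Perm GolayPt) M.c
  have hc'a : M.a ≠ c' := fun e => M.hac ((Equiv.injective _) (ha.trans e))
  have hc'b : M.b ≠ c' := fun e => M.hbc ((Equiv.injective _) (hb.trans e))
  obtain ⟨e, he⟩ := exists_avoid {M.a, M.b, M.c, c'} (le_trans Finset.card_le_four (by norm_num))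
  simp only [Finset.mem_insert, Finset.mem_singleton, not_or] at he
  obtain ⟨he1, he2, he3, he4⟩ := he
  -- the member at `ae`
  obtain ⟨σ, sa, sb, sc⟩ := exists_map_three M.hab M.hac M.hbc M.hab (Ne.symm he1) (Ne.symm he2)
  obtain ⟨r, hr, rfl⟩ := M.Pg.lift σ
  have hrt : r * P.tG * r⁻¹ = P.tG := M.Pg.fix_of_points hr ht M.pt sa sb
  have hrS : r ∈ P.St B := ⟨hr, Subgroup.mem_centralizer_singleton_iff.2 (mul_inv_eq_iff_eq_mul.1 hrt)⟩
  have hv : M.Pg.p (r * P.uG * r⁻¹) = {M.a, e} := by rw [M.Pg.image_pair hr hu M.pu, sa, sc]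
  have hvS := M.Pg.closed r hr _ hu
  obtain ⟨τ, ta, tb, te, tc⟩ := exists_map_four M.hab (Ne.symm he1) M.hac (Ne.symm he2) M.hbc he3
    M.hab (Ne.symm he1) hc'a (Ne.symm he2) hc'b he4
  obtain ⟨y₁, hy₁, rfl⟩ := M.Pg.lift τ
  have hy₁t : y₁ * P.tG * y₁⁻¹ = P.tG := M.Pg.fix_of_points hy₁ ht M.pt ta tb
  have hy₁S : y₁ ∈ P.St B := ⟨hy₁, Subgroup.mem_centralizer_singleton_iff.2 (mul_inv_eq_iff_eq_mul.1 hy₁t)⟩
  refine ⟨r, hrS, y₁, y₁⁻¹ * y, (mul_inv_cancel_left y₁ y).symm, hy₁S, mul_mem (inv_mem hy₁S) hy, ?_, ?_⟩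
  · exact mul_inv_eq_iff_eq_mul.1 (M.Pg.fix_of_points hy₁ hvS hv ta te)
  · have hmem : y₁⁻¹ * y ∈ Subgroup.normalizer (Ag B : Set G) := mul_mem (inv_mem hy₁) hy'
    have hcomp : ∀ w, (M.Pg.ψ ⟨y₁⁻¹ * y, hmem⟩ : Equiv.Perm GolayPt) w =
        (M.Pg.ψ ⟨y₁, hy₁⟩ : Equiv.Perm GolayPt)⁻¹ ((M.Pg.ψ ⟨y, hy'⟩ : Equiv.Perm GolayPt) w) := fun w => by
      rw [show (⟨y₁⁻¹ * y, hmem⟩ : ↥(Subgroup.normalizer (Ag B : Set G))) = ⟨y₁, hy₁⟩⁻¹ * ⟨y, hy'⟩ from rfl,
        map_mul, map_inv]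
      rfl
    refine mul_inv_eq_iff_eq_mul.1 (M.Pg.fix_of_points hmem hu M.pu ?_ ?_)
    · rw [hcomp, ha, Equiv.Perm.inv_eq_iff_eq, ta]
    · rw [hcomp, Equiv.Perm.inv_eq_iff_eq, tc]

end Marks

end CfsgLib.LargeFischerE
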