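import Cfsg.Agent.LargeFischerJ.Main
import Cfsg.Agent.Mathieu.M24Actions
import Cfsg.Agent.GolayOrbits.IndexPair

/-!
The elements of the elementary abelian group of order 2048 that are not conjugate to the central involution,
marked by the pairs of points of M24, equivariantly for the normalizer.
-/

set_option autoImplicit false
set_option linter.unusedSectionVars false
set_option linter.style.haveILetI false

namespace CfsgLib.LargeFischerE

open Cfsg CfsgLib.Mathieu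
open scoped Pointwise

/-- Four distinct points go to four distinct points. -/
theorem exists_map_four {a b c d a' b' c' d' : GolayPt} (h1 : a ≠ b) (h2 : a ≠ c) (h3 : a ≠ d) (h4 : b ≠ c)
    (h5 : b ≠ d) (h6 : c ≠ d) (g1 : a' ≠ b') (g2 : a' ≠ c') (g3 : a' ≠ d') (g4 : b' ≠ c') (g5 : b' ≠ d')
    (g6 : c' ≠ d') : ∃ σ : ↥M24, (σ : Equiv.Perm GolayPt) a = a' ∧ (σ : Equiv.Perm GolayPt) b = b' ∧
      (σ : Equiv.Perm GolayPt) c = c' ∧ (σ : Equiv.Perm GolayPt) d = d' := by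
  haveI := M24_isMultiplyPretransitive (k := 4) (by norm_num)
  let x : Fin 4 ↪ GolayPt := ⟨![a, b, c, d], by
    intro i j e
    fin_cases i <;> fin_cases j <;> simp_all⟩
  let y : Fin 4 ↪ GolayPt := ⟨![a', b', c', d'], by
    intro i j e
    fin_cases i <;> fin_cases j <;> simp_all⟩
  obtain ⟨σ, hσ⟩ := MulAction.exists_smul_eq (↥M24) x y
  exact ⟨σ, congrArg (fun f : Fin 4 ↪ GolayPt => f 0) hσ, congrArg (fun f : Fin 4 ↪ GolayPt => f 1) hσ,
    congrArg (fun f : Fin 4 ↪ GolayPt => f 2) hσ, congrArg (fun f : Fin 4 ↪ GolayPt => f 3) hσ⟩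

/-- A point avoiding a short list. -/
theorem exists_avoid (l : Finset GolayPt) (h : l.card ≤ 23) : ∃ x, x ∉ l := by
  obtain ⟨x, -, hx⟩ := Finset.exists_mem_notMem_of_card_lt_card (s := l) (t := Finset.univ) (by
    rw [Finset.card_univ, show Fintype.card GolayPt = 24 by simp [GolayPt, ZMod.card]]
    omega)
  exact ⟨x, hx⟩

/-- Three distinct points go to three distinct points. -/
theorem exists_map_three {a b c a' b' c' : GolayPt} (h1 : a ≠ b) (h2 : a ≠ c) (h3 : b ≠ c)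
    (g1 : a' ≠ b') (g2 : a' ≠ c') (g3 : b' ≠ c') : ∃ σ : ↥M24, (σ : Equiv.Perm GolayPt) a = a' ∧
      (σ : Equiv.Perm GolayPt) b = b' ∧ (σ : Equiv.Perm GolayPt) c = c' := by
  obtain ⟨d, hd⟩ := exists_avoid {a, b, c} (le_trans Finset.card_le_three (by norm_num))
  obtain ⟨d', hd'⟩ := exists_avoid {a', b', c'} (le_trans Finset.card_le_three (by norm_num))
  simp only [Finset.mem_insert, Finset.mem_singleton, not_or] at hd hd'
  obtain ⟨σ, e1, e2, e3, -⟩ := exists_map_four h1 h2 (Ne.symm hd.1) h3 (Ne.symm hd.2.1) (Ne.symm hd.2.2)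
    g1 g2 (Ne.symm hd'.1) g3 (Ne.symm hd'.2.1) (Ne.symm hd'.2.2)
  exact ⟨σ, e1, e2, e3⟩

/-- A permutation fixing two points and moving a pair to another pair. -/
theorem Mathieu24Map {a b c d c' d' : GolayPt} (h1 : a ≠ b) (h2 : a ≠ c) (h4 : b ≠ c) (h3 : a ≠ d)
    (h5 : b ≠ d) (h6 : c ≠ d) (g2 : a ≠ c') (g4 : b ≠ c') (g3 : a ≠ d') (g5 : b ≠ d')
    (g6 : c' ≠ d') : ∃ σ : ↥M24, (σ : Equiv.Perm GolayPt) a = a ∧ (σ : Equiv.Perm GolayPt) b = b ∧
      (σ : Equiv.Perm GolayPt) c = c' ∧ (σ : Equiv.Perm GolayPt) d = d' :=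
  exists_map_four h1 h2 h3 h4 h5 h6 h1 g2 g3 g4 g5 g6

variable {G : Type*} [Group G] [Finite G]

/-- Pairs of points for the elements of a set, equivariantly. -/
structure Pairing (A : Subgroup G) (S : Set G) where
  /-- the action on the points -/
  ψ : ↥(Subgroup.normalizer (A : Set G)) →* ↥M24
  surj : Function.Surjective ψ
  /-- the pair of an element -/
  p : G → Finset GolayPt
  card_p : ∀ v ∈ S, (p v).card = 2
  inj : Set.InjOn p S
  closed : ∀ m ∈ Subgroup.normalizer (A : Set G), ∀ v ∈ S, m * v * m⁻¹ ∈ S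
  equiv : ∀ (m : G) (hm : m ∈ Subgroup.normalizer (A : Set G)), ∀ v ∈ S,
    p (m * v * m⁻¹) = (p v).image (ψ ⟨m, hm⟩ : Equiv.Perm GolayPt)

theorem exists_pairing {z : G} {A R : Subgroup G} (L : LargeFischerJ.Layer z A R) :
    Nonempty (Pairing A (LargeFischerJ.Layer.others z A)) := by
  classical
  set S := LargeFischerJ.Layer.others z A with hS
  set N := Subgroup.normalizer (A : Set G) with hN
  haveI := L.normal_subgroupOf
  obtain ⟨_, ⟨e⟩⟩ := L.iso_M24
  let ψ : ↥N →* ↥M24 := e.toMonoidHom.comp (QuotientGroup.mk' (A.subgroupOf N))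
  have hψ : Function.Surjective ψ := e.surjective.comp (QuotientGroup.mk'_surjective _)
  have hker : ∀ m, ψ m = 1 ↔ (m : G) ∈ A := fun m => by
    show e (QuotientGroup.mk' _ m) = 1 ↔ _
    rw [map_eq_one_iff e e.injective, QuotientGroup.mk'_apply, QuotientGroup.eq_one_iff, Subgroup.mem_subgroupOf]
  have hcl : ∀ m ∈ N, ∀ v ∈ S, m * v * m⁻¹ ∈ S := fun m hm c hc =>
    ⟨L.conj_mem hm hc.1, fun h => hc.2.1 (conj_eq_one_iff.1 h), fun h => hc.2.2 (by
      have := LargeFischerJ.Layer.isConj_conj (m := m⁻¹) h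
      simpa [mul_assoc] using this)⟩
  obtain ⟨v₀, hv₀⟩ : S.Nonempty := Set.nonempty_coe_sort.1
    (Nat.card_pos_iff.1 (by rw [hS, L.card_others]; norm_num)).1
  letI := LargeFischerJ.conjSet N S hcl
  let S₀ := MulAction.stabilizer ↥N (⟨v₀, hv₀⟩ : S)
  have hmem₀ : ∀ m : ↥N, m ∈ S₀ ↔ (m : G) * v₀ * (m : G)⁻¹ = v₀ := fun m => by
    rw [MulAction.mem_stabilizer_iff, Subtype.ext_iff]
    rfl
  have hidx : (S₀.map ψ).index = 276 := by
    rw [Subgroup.index_map_eq _ hψ ?_]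
    · rw [MulAction.index_stabilizer, show MulAction.orbit ↥N (⟨v₀, hv₀⟩ : S) = Set.univ from
        Set.eq_univ_of_forall fun c => ?_, Set.ncard_univ, L.card_others]
      obtain ⟨m, hm, h⟩ := L.others_transitive hv₀ c.2
      exact ⟨⟨m, hm⟩, Subtype.ext h⟩
    · intro m hm
      rw [hmem₀, mul_inv_eq_iff_eq_mul]
      exact L.comm ((hker m).1 (MonoidHom.mem_ker.1 hm)) hv₀.1
  obtain ⟨s, hs, hstab⟩ := CfsgLib.GolayOrbits.index_276 _ hidx
  choose! g hgN hg using fun v (hv : v ∈ S) => L.others_transitive hv₀ hv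
  let p : G → Finset GolayPt := fun v =>
    if hv : v ∈ S then s.image (ψ ⟨g v, hgN v hv⟩ : Equiv.Perm GolayPt) else ∅
  have hsame : ∀ m m' : ↥N, s.image (ψ m : Equiv.Perm GolayPt) = s.image (ψ m' : Equiv.Perm GolayPt) ↔
      (m : G) * v₀ * (m : G)⁻¹ = (m' : G) * v₀ * (m' : G)⁻¹ := by
    intro m m'
    have e1 : s.image (ψ m : Equiv.Perm GolayPt) = ψ m • s := rfl
    have e2 : s.image (ψ m' : Equiv.Perm GolayPt) = ψ m' • s := rfl
    rw [e1, e2, eq_comm, ← inv_smul_eq_iff, smul_smul, ← map_inv, ← map_mul, ← MulAction.mem_stabilizer_iff,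
      ← hstab, Subgroup.mem_map]
    constructor
    · rintro ⟨k, hk, e⟩
      have h1 : ψ (k⁻¹ * (m⁻¹ * m')) = 1 := by rw [map_mul, map_inv, e, inv_mul_cancel]
      have h2 : (m⁻¹ * m' : ↥N) ∈ S₀ := by
        have : (k⁻¹ * (m⁻¹ * m') : ↥N) ∈ S₀ := by
          rw [hmem₀, mul_inv_eq_iff_eq_mul]
          exact L.comm ((hker _).1 h1) hv₀.1
        simpa using mul_mem hk this
      rw [hmem₀] at h2
      calc (m : G) * v₀ * (m : G)⁻¹ = (m : G) * ((m⁻¹ * m' : ↥N) * v₀ * ((m⁻¹ * m' : ↥N) : G)⁻¹) * (m : G)⁻¹ := by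
            rw [h2]
        _ = _ := by push_cast; group
    · intro h
      refine ⟨m⁻¹ * m', (hmem₀ _).2 ?_, rfl⟩
      calc ((m⁻¹ * m' : ↥N) : G) * v₀ * ((m⁻¹ * m' : ↥N) : G)⁻¹
          = (m : G)⁻¹ * ((m' : G) * v₀ * (m' : G)⁻¹) * m := by push_cast; group
        _ = v₀ := by rw [← h]; group
  refine ⟨⟨ψ, hψ, p, fun v hv => ?_, fun v hv w hw e => ?_, hcl, fun m hm v hv => ?_⟩⟩
  · simp only [p, dif_pos hv]
    rw [Finset.card_image_of_injective _ (Equiv.injective _), hs]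
  · simp only [p, dif_pos hv, dif_pos hw] at e
    have := (hsame _ _).1 e
    simp only at this
    rwa [hg v hv, hg w hw] at this
  · simp only [p, dif_pos hv, dif_pos (hcl m hm v hv)]
    rw [Finset.image_image, ← Equiv.Perm.coe_mul, ← Subgroup.coe_mul, ← map_mul, hsame]
    show g _ * v₀ * (g _)⁻¹ = (m * g v) * v₀ * (m * g v)⁻¹
    rw [hg _ (hcl m hm v hv)]
    conv_lhs => rw [← hg v hv]
    group

namespace Pairing

variable {A : Subgroup G} {S : Set G} (Pg : Pairing A S)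
include Pg

theorem lift (σ : ↥M24) : ∃ (m : G) (hm : m ∈ Subgroup.normalizer (A : Set G)), Pg.ψ ⟨m, hm⟩ = σ := by
  obtain ⟨⟨m, hm⟩, e⟩ := Pg.surj σ
  exact ⟨m, hm, e⟩

/-- An element mapping the pair of one onto the pair of the other conjugates one to the other. -/
theorem conj_eq {m : G} (hm : m ∈ Subgroup.normalizer (A : Set G)) {v w : G} (hv : v ∈ S) (hw : w ∈ S)
    (h : (Pg.p v).image (Pg.ψ ⟨m, hm⟩ : Equiv.Perm GolayPt) = Pg.p w) : m * v * m⁻¹ = w :=
  Pg.inj (Pg.closed m hm v hv) hw ((Pg.equiv m hm v hv).trans h)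

theorem image_pair {m : G} (hm : m ∈ Subgroup.normalizer (A : Set G)) {v : G} (hv : v ∈ S) {x y : GolayPt}
    (h : Pg.p v = {x, y}) : Pg.p (m * v * m⁻¹) =
      {(Pg.ψ ⟨m, hm⟩ : Equiv.Perm GolayPt) x, (Pg.ψ ⟨m, hm⟩ : Equiv.Perm GolayPt) y} := by
  rw [Pg.equiv m hm v hv, h, Finset.image_insert, Finset.image_singleton]

theorem fix_of_points {m : G} (hm : m ∈ Subgroup.normalizer (A : Set G)) {v : G} (hv : v ∈ S) {x y : GolayPt}
    (h : Pg.p v = {x, y}) (hx : (Pg.ψ ⟨m, hm⟩ : Equiv.Perm GolayPt) x = x)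
    (hy : (Pg.ψ ⟨m, hm⟩ : Equiv.Perm GolayPt) y = y) : m * v * m⁻¹ = v :=
  Pg.conj_eq hm hv hv (by rw [h, Finset.image_insert, Finset.image_singleton, hx, hy])

/-- The product of two elements with pairs `ab`, `ac` has the pair `bc`, once it is one of them. -/
theorem triangle {t u : G} (ht : t ∈ S) (hu : u ∈ S) (htu : t * u ∈ S) (ne1 : t * u ≠ t) (ne2 : t * u ≠ u)
    {a b c : GolayPt} (hab : a ≠ b) (hac : a ≠ c) (hbc : b ≠ c) (pt : Pg.p t = {a, b}) (pu : Pg.p u = {a, c}) :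
    Pg.p (t * u) = {b, c} := by
  obtain ⟨x, y, hxy, pxy⟩ := Finset.card_eq_two.1 (Pg.card_p _ htu)
  have key : ∀ σ : ↥M24, (σ : Equiv.Perm GolayPt) a = a → (σ : Equiv.Perm GolayPt) b = b →
      (σ : Equiv.Perm GolayPt) c = c →
      ({(σ : Equiv.Perm GolayPt) x, (σ : Equiv.Perm GolayPt) y} : Finset GolayPt) = {x, y} := by
    intro σ ha hb hc
    obtain ⟨m, hm, rfl⟩ := Pg.lift σ
    have e1 := Pg.fix_of_points hm ht pt ha hb
    have e2 := Pg.fix_of_points hm hu pu ha hc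
    have e : m * (t * u) * m⁻¹ = t * u :=
      (by group : m * (t * u) * m⁻¹ = m * t * m⁻¹ * (m * u * m⁻¹)).trans (by rw [e1, e2])
    rw [← Pg.image_pair hm htu pxy, e, pxy]
  have inner : ∀ x y : GolayPt, x ≠ y →
      (∀ σ : ↥M24, (σ : Equiv.Perm GolayPt) a = a → (σ : Equiv.Perm GolayPt) b = b →
        (σ : Equiv.Perm GolayPt) c = c →
        ({(σ : Equiv.Perm GolayPt) x, (σ : Equiv.Perm GolayPt) y} : Finset GolayPt) = {x, y}) →
      x = a ∨ x = b ∨ x = c := by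
    intro x y hxy h
    by_contra hx
    simp only [not_or] at hx
    obtain ⟨x', hx'⟩ := exists_avoid {a, b, c, x, y} (le_trans Finset.card_le_five (by norm_num))
    simp only [Finset.mem_insert, Finset.mem_singleton, not_or] at hx'
    obtain ⟨σ, sa, sb, sc, sx⟩ := exists_map_four hab hac (Ne.symm hx.1) hbc (Ne.symm hx.2.1) (Ne.symm hx.2.2)
      hab hac (Ne.symm hx'.1) hbc (Ne.symm hx'.2.1) (Ne.symm hx'.2.2.1)
    have hmem : x' ∈ ({x, y} : Finset GolayPt) := by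
      rw [← h σ sa sb sc, ← sx]
      exact Finset.mem_insert_self _ _
    simp only [Finset.mem_insert, Finset.mem_singleton] at hmem
    exact hmem.elim hx'.2.2.2.1 hx'.2.2.2.2
  have hx := inner x y hxy key
  have hy := inner y x hxy.symm fun σ ha hb hc => by
    rw [Finset.pair_comm, key σ ha hb hc, Finset.pair_comm]
  have n1 : ({x, y} : Finset GolayPt) ≠ {a, b} := fun e => ne1 (Pg.inj htu ht (by rw [pxy, e, pt]))
  have n2 : ({x, y} : Finset GolayPt) ≠ {a, c} := fun e => ne2 (Pg.inj htu hu (by rw [pxy, e, pu]))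
  rw [pxy]
  rcases hx with rfl | rfl | rfl <;> rcases hy with rfl | rfl | rfl <;>
    first
    | exact absurd rfl hxy
    | exact absurd rfl n1
    | exact absurd rfl n2
    | exact absurd (Finset.pair_comm _ _) n1
    | exact absurd (Finset.pair_comm _ _) n2
    | rfl
    | exact Finset.pair_comm _ _

/-- From one triangle all others. -/
theorem product {t u : G} (ht : t ∈ S) (hu : u ∈ S) (htu : t * u ∈ S)
    {a b c : GolayPt} (hab : a ≠ b) (hac : a ≠ c) (hbc : b ≠ c) (pt : Pg.p t = {a, b}) (pu : Pg.p u = {a, c})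
    (ptu : Pg.p (t * u) = {b, c}) {v w : G} (hv : v ∈ S) (hw : w ∈ S) {x y y' : GolayPt} (h1 : x ≠ y)
    (h2 : x ≠ y') (h3 : y ≠ y') (pv : Pg.p v = {x, y}) (pw : Pg.p w = {x, y'}) :
    v * w ∈ S ∧ Pg.p (v * w) = {y, y'} := by
  obtain ⟨σ, sa, sb, sc⟩ := exists_map_three hab hac hbc h1 h2 h3
  obtain ⟨m, hm, rfl⟩ := Pg.lift σ
  have e1 : m * t * m⁻¹ = v :=
    Pg.conj_eq hm ht hv (by rw [pt, Finset.image_insert, Finset.image_singleton, sa, sb, pv])
  have e2 : m * u * m⁻¹ = w :=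
    Pg.conj_eq hm hu hw (by rw [pu, Finset.image_insert, Finset.image_singleton, sa, sc, pw])
  have e : m * (t * u) * m⁻¹ = v * w := by rw [← e1, ← e2]; group
  exact ⟨e ▸ Pg.closed m hm _ htu, by rw [← e, Pg.image_pair hm htu ptu, sb, sc]⟩

end Pairing

end CfsgLib.LargeFischerE
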