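import Cfsg.Agent.LargeFischerE.Quad

/-!
The transfer, at an involution normalizing an elementary abelian group, of a parity defined on the centralizer
of an element: only the conjugates of that element inside the group count.
-/

set_option autoImplicit false

namespace CfsgLib.LargeFischerE

variable {Γ : Type*} [Group Γ] [Finite Γ]

/-- The group of order two. -/
abbrev Bit : Type := Multiplicative (ZMod 2)

theorem bit_cases : ∀ e : Bit, e = 1 ∨ e = Multiplicative.ofAdd 1 := by decide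

theorem bit_ne : (Multiplicative.ofAdd 1 : Bit) ≠ 1 := by decide

/-- The transfer at an involution is a product over the fixed cosets. -/
theorem transfer_involution {H : Subgroup Γ} (φ : ↥H →* Bit) {x : Γ} (hx : x * x = 1) (val : Γ ⧸ H → Bit)
    (hval : ∀ (q : Γ ⧸ H) (h : q.out⁻¹ * x * q.out ∈ H), val q = φ ⟨q.out⁻¹ * x * q.out, h⟩)
    [Fintype (Γ ⧸ H)] [DecidableEq (Γ ⧸ H)] :
    MonoidHom.transfer φ x = ∏ q ∈ Finset.univ.filter (fun q : Γ ⧸ H => x • q = q), val q := by
  classical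
  haveI : Fintype (Quotient (MulAction.orbitRel (Subgroup.zpowers x) (Γ ⧸ H))) := Fintype.ofFinite _
  rw [MonoidHom.transfer_eq_prod_quotient_orbitRel_zpowers_quot]
  have hper : ∀ q : Γ ⧸ H, (x • q = q → Function.minimalPeriod (x • ·) q = 1) ∧
      (¬ x • q = q → Function.minimalPeriod (x • ·) q = 2) := by
    intro q
    refine ⟨fun h => Function.minimalPeriod_eq_one_iff_isFixedPt.2 h, fun h => ?_⟩
    have h2 : Function.IsPeriodicPt (x • ·) 2 q := by
      show (x • ·)^[2] q = q
      simp [smul_smul, hx]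
    rcases (Nat.dvd_prime Nat.prime_two).1 h2.minimalPeriod_dvd with e | e
    · exact absurd (Function.minimalPeriod_eq_one_iff_isFixedPt.1 e) h
    · exact e
  have hfix : ∀ q : Γ ⧸ H, x • q = q → ∀ p : Γ ⧸ H,
      Quotient.mk (MulAction.orbitRel (Subgroup.zpowers x) (Γ ⧸ H)) p = Quotient.mk _ q → p = q := by
    intro q hq p hp
    obtain ⟨⟨g, hg⟩, e⟩ := Quotient.exact hp
    have hle : Subgroup.zpowers x ≤ MulAction.stabilizer Γ q := Subgroup.zpowers_le.2 hq
    rw [← e]
    exact hle hg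
  rw [← Finset.prod_filter_mul_prod_filter_not Finset.univ (fun o => x • (Quotient.out o) = Quotient.out o)]
  rw [Finset.prod_eq_one (s := Finset.univ.filter fun o => ¬ x • (Quotient.out o) = Quotient.out o), mul_one]
  · refine Finset.prod_bij' (fun o _ => Quotient.out o) (fun q _ => Quotient.mk _ q)
      (fun o ho => ?_) (fun q hq => ?_) (fun o _ => Quotient.out_eq o) (fun q hq => ?_) (fun o ho => ?_)
    · simpa using (Finset.mem_filter.1 ho).2
    · refine Finset.mem_filter.2 ⟨Finset.mem_univ _, ?_⟩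
      have hq' := (Finset.mem_filter.1 hq).2
      rw [hfix q hq' _ (Quotient.out_eq _)]
      exact hq'
    · exact hfix q (Finset.mem_filter.1 hq).2 _ (Quotient.out_eq _)
    · have h := (Finset.mem_filter.1 ho).2
      have hm : o.out.out⁻¹ * x * o.out.out ∈ H := by
        have hm' := QuotientGroup.out_conj_pow_minimalPeriod_mem H x o.out
        rwa [(hper _).1 h, pow_one] at hm'
      rw [hval o.out hm]
      refine congrArg φ (Subtype.ext ?_)
      show o.out.out⁻¹ * x ^ Function.minimalPeriod (x • ·) o.out * o.out.out = _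
      rw [(hper _).1 h, pow_one]
  · intro o ho
    rw [show (⟨_, QuotientGroup.out_conj_pow_minimalPeriod_mem H x o.out⟩ : ↥H) = 1 from Subtype.ext (by
      show o.out.out⁻¹ * x ^ Function.minimalPeriod (x • ·) o.out * o.out.out = 1
      rw [(hper _).2 (Finset.mem_filter.1 ho).2, pow_two, hx, mul_one, inv_mul_cancel]), map_one]

/-- Conjugates of `z` as the cosets of its centralizer. -/
theorem smul_mk_eq_iff {z : Γ} {H : Subgroup Γ} (hH : H = Subgroup.centralizer ({z} : Set Γ)) {g r : Γ} :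
    g • (r : Γ ⧸ H) = r ↔ Commute g (r * z * r⁻¹) := by
  show ((g * r : Γ) : Γ ⧸ H) = r ↔ _
  rw [eq_comm, QuotientGroup.eq, hH, Subgroup.mem_centralizer_singleton_iff]
  constructor
  · intro h
    show g * (r * z * r⁻¹) = r * z * r⁻¹ * g
    calc g * (r * z * r⁻¹) = r * (r⁻¹ * (g * r) * z) * r⁻¹ := by group
      _ = r * (z * (r⁻¹ * (g * r))) * r⁻¹ := by rw [h]
      _ = r * z * r⁻¹ * g := by group
  · intro h
    calc r⁻¹ * (g * r) * z = r⁻¹ * (g * (r * z * r⁻¹)) * r := by group
      _ = r⁻¹ * (r * z * r⁻¹ * g) * r := by rw [h.eq]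
      _ = z * (r⁻¹ * (g * r)) := by group

/-- The transfer of a parity. -/
theorem transfer_parity (z x : Γ) {H : Subgroup Γ} (hH : H = Subgroup.centralizer ({z} : Set Γ))
    (φ : ↥H →* Bit) (A : Subgroup Γ)
    (hcomm : ∀ a ∈ A, ∀ b ∈ A, a * b = b * a) (hsq : ∀ a ∈ A, a * a = 1) (hx : x * x = 1)
    (hxA : ∀ a ∈ A, x * a * x⁻¹ ∈ A)
    (hmax : ∀ r : Γ, (∀ a ∈ A, Commute a (r * z * r⁻¹)) → r * z * r⁻¹ ∈ A)
    (hhyp : ∀ r : Γ, r * z * r⁻¹ ∉ A →
      (∃ a₀ ∈ A, ∀ a ∈ A, Commute a (r * z * r⁻¹) ∨ Commute (a * a₀) (r * z * r⁻¹)) →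
      ∀ b ∈ A, ∀ h : r⁻¹ * b * r ∈ H, φ ⟨_, h⟩ = 1)
    (hin : ∀ r : Γ, r * z * r⁻¹ ∈ A → ∀ h : r⁻¹ * x * r ∈ H,
      φ ⟨_, h⟩ = Multiplicative.ofAdd 1)
    (hodd : Odd (Nat.card {w : Γ // w ∈ A ∧ IsConj z w})) :
    MonoidHom.transfer φ x = Multiplicative.ofAdd 1 := by
  classical
  haveI : Fintype (Γ ⧸ H) := Fintype.ofFinite _
  -- the value of an element at a coset
  let pv : Γ ⧸ H → Γ → Bit := fun q g =>
    if h : q.out⁻¹ * g * q.out ∈ H then φ ⟨_, h⟩ else 1
  have hmem : ∀ {g r : Γ}, g • (r : Γ ⧸ H) = r → r⁻¹ * g * r ∈ H := fun {g r} h => by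
    have h' : ((g * r : Γ) : Γ ⧸ H) = r := h
    rw [eq_comm, QuotientGroup.eq] at h'
    rwa [mul_assoc]
  have hpv : ∀ {g r : Γ} (h : g • (r : Γ ⧸ H) = r), pv r g = φ ⟨_, hmem h⟩ := by
    intro g r h
    set s := (r : Γ ⧸ H).out with hs
    have hse : (s : Γ ⧸ H) = r := QuotientGroup.out_eq' _
    have h1 : s⁻¹ * g * s ∈ H := hmem (by rw [hse]; exact h)
    have hk : r⁻¹ * s ∈ H := QuotientGroup.eq.1 hse.symm
    simp only [pv, ← hs, dif_pos h1]
    have e : (⟨_, hmem h⟩ : ↥H) = ⟨_, hk⟩ * ⟨_, h1⟩ * (⟨_, hk⟩ : ↥H)⁻¹ := Subtype.ext (by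
      show r⁻¹ * g * r = r⁻¹ * s * (s⁻¹ * g * s) * (r⁻¹ * s)⁻¹
      group)
    rw [e, map_mul, map_mul, map_inv, mul_comm (φ ⟨_, hk⟩), mul_inv_cancel_right]
  rw [transfer_involution φ hx (fun q => pv q x) (fun q h => by simp only [pv, dif_pos h])]
  set wq : Γ ⧸ H → Γ := fun q => q.out * z * q.out⁻¹ with hwq
  have hwmk : ∀ r : Γ, wq r = r * z * r⁻¹ := by
    intro r
    have hk : r⁻¹ * (r : Γ ⧸ H).out ∈ H := QuotientGroup.eq.1 (QuotientGroup.out_eq' _).symm
    rw [SetLike.ext_iff.1 hH, Subgroup.mem_centralizer_singleton_iff] at hk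
    show (r : Γ ⧸ H).out * z * (r : Γ ⧸ H).out⁻¹ = _
    calc (r : Γ ⧸ H).out * z * (r : Γ ⧸ H).out⁻¹
        = r * (r⁻¹ * (r : Γ ⧸ H).out * z) * (r : Γ ⧸ H).out⁻¹ := by group
      _ = r * (z * (r⁻¹ * (r : Γ ⧸ H).out)) * (r : Γ ⧸ H).out⁻¹ :=
          congrArg (fun y => r * y * (r : Γ ⧸ H).out⁻¹) hk
      _ = r * z * r⁻¹ := by group
  have hwg : ∀ (g : Γ) (q : Γ ⧸ H), wq (g • q) = g * wq q * g⁻¹ := by
    intro g q
    induction q using QuotientGroup.induction_on with
    | H r =>
      show wq ((g * r : Γ) : Γ ⧸ H) = _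
      rw [hwmk, hwmk]; group
  set F := Finset.univ.filter (fun q : Γ ⧸ H => x • q = q) with hF
  rw [← Finset.prod_filter_mul_prod_filter_not F (fun q => wq q ∈ A)]
  -- the part outside
  have hout : ∏ q ∈ F.filter (fun q => ¬ wq q ∈ A), pv q x = 1 := by
    let c : Γ → Γ := fun a => a⁻¹ * x * a * x
    have hxi : x⁻¹ = x := inv_eq_of_mul_eq_one_right hx
    have hcA : ∀ a ∈ A, c a ∈ A := fun a ha => by
      show a⁻¹ * x * a * x ∈ A
      have e : a⁻¹ * x * a * x = a⁻¹ * (x * a * x⁻¹) := by rw [hxi]; group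
      rw [e]
      exact mul_mem (inv_mem ha) (hxA a ha)
    have hcx : ∀ a, a⁻¹ * x * a = c a * x := fun a => by
      show a⁻¹ * x * a = a⁻¹ * x * a * x * x
      rw [mul_assoc _ x x, hx, mul_one]
    have hc1 : ∀ a ∈ A, ∀ b ∈ A, c (a * b) = c a * c b := by
      intro a ha b hb
      show (a * b)⁻¹ * x * (a * b) * x = a⁻¹ * x * a * x * (b⁻¹ * x * b * x)
      have h1 := hcomm _ (inv_mem hb) _ (hcA a ha)
      calc (a * b)⁻¹ * x * (a * b) * x = b⁻¹ * (a⁻¹ * x * a * x) * (x * b * x) := by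
            simp only [_root_.mul_inv_rev, mul_assoc]
            rw [← mul_assoc x x (b * x), hx, one_mul]
        _ = a⁻¹ * x * a * x * b⁻¹ * (x * b * x) := by rw [show b⁻¹ * (a⁻¹ * x * a * x) = _ from h1]
        _ = _ := by group
    have hcfix : ∀ a ∈ A, c (c a) = 1 := by
      intro a ha
      have hai : a⁻¹ = a := inv_eq_of_mul_eq_one_right (hsq a ha)
      have hac : a * (x * a * x) = x * a * x * a := hcomm _ ha _ (by
        have := hxA a ha; rwa [hxi] at this)
      have h : x * c a * x = c a := by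
        show x * (a⁻¹ * x * a * x) * x = a⁻¹ * x * a * x
        calc x * (a⁻¹ * x * a * x) * x = x * a * x * a * (x * x) := by rw [hai]; simp only [mul_assoc]
          _ = a * (x * a * x) := by rw [hx, mul_one, hac]
          _ = a⁻¹ * x * a * x := by rw [hai]; simp only [mul_assoc]
      show (c a)⁻¹ * x * c a * x = 1
      calc (c a)⁻¹ * x * c a * x = (c a)⁻¹ * (x * c a * x) := by group
        _ = 1 := by rw [h, inv_mul_cancel]
    let K : Γ ⧸ H → Γ → Prop := fun q e => e • q = q ∧ pv q e = 1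
    have hK : ∀ b ∈ A, ∀ e ∈ A, ∀ q, K (b • q) e ↔ K q e := by
      intro b hb e he q
      induction q using QuotientGroup.induction_on with
      | H r =>
        show (e • ((b * r : Γ) : Γ ⧸ H) = ((b * r : Γ) : Γ ⧸ H) ∧ pv ((b * r : Γ) : Γ ⧸ H) e = 1) ↔ _
        have h1 : e • ((b * r : Γ) : Γ ⧸ H) = ((b * r : Γ) : Γ ⧸ H) ↔ e • (r : Γ ⧸ H) = r := by
          show e • (b • (r : Γ ⧸ H)) = b • (r : Γ ⧸ H) ↔ _
          rw [smul_smul, hcomm e he b hb, ← smul_smul, smul_left_cancel_iff]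
        constructor
        · rintro ⟨h, h'⟩
          refine ⟨h1.1 h, ?_⟩
          rw [hpv (h1.1 h)]
          rw [hpv h] at h'
          refine Eq.trans (congrArg φ (Subtype.ext ?_)) h'
          show r⁻¹ * e * r = (b * r)⁻¹ * e * (b * r)
          rw [show (b * r)⁻¹ * e * (b * r) = r⁻¹ * (b⁻¹ * (e * b)) * r by group, hcomm e he b hb,
            inv_mul_cancel_left]
        · rintro ⟨h, h'⟩
          refine ⟨h1.2 h, ?_⟩
          rw [hpv (h1.2 h)]
          rw [hpv h] at h'
          refine Eq.trans (congrArg φ (Subtype.ext ?_)) h'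
          show (b * r)⁻¹ * e * (b * r) = r⁻¹ * e * r
          rw [show (b * r)⁻¹ * e * (b * r) = r⁻¹ * (b⁻¹ * (e * b)) * r by group, hcomm e he b hb,
            inv_mul_cancel_left]
    let Pr : Γ ⧸ H → Γ → Prop := fun q a => a ∈ A ∧ a • q ≠ q ∧ K q (c a)
    have hPr : ∀ b ∈ A, ∀ q, Pr (b • q) = Pr q := by
      intro b hb q
      funext a
      refine propext (and_congr_right fun ha => and_congr ?_ (hK b hb _ (hcA a ha) q))
      rw [smul_smul, hcomm a ha b hb, ← smul_smul, Ne, smul_left_cancel_iff]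
    have hex : ∀ q, x • q = q → wq q ∉ A → ∃ a, Pr q a := by
      intro q hq hqA
      obtain ⟨a₁, ha₁, hmove⟩ : ∃ a ∈ A, a • q ≠ q := by
        by_contra hno
        push Not at hno
        induction q using QuotientGroup.induction_on with
        | H r => exact hqA (hwmk r ▸ hmax r fun a ha => (smul_mk_eq_iff hH).1 (hno a ha))
      by_cases hα : ∃ a ∈ A, a • q ≠ q ∧ c a = 1
      · obtain ⟨a, ha, h1, h2⟩ := hα
        refine ⟨a, ha, h1, by rw [h2, one_smul], ?_⟩
        induction q using QuotientGroup.induction_on with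
        | H r =>
          rw [h2, hpv (one_smul Γ (r : Γ ⧸ H))]
          refine Eq.trans (congrArg φ (Subtype.ext ?_)) (map_one φ)
          show r⁻¹ * 1 * r = 1
          group
      push Not at hα
      have hcq : ∀ a ∈ A, c a • q = q := fun a ha => by
        by_contra h
        exact hα _ (hcA a ha) h (hcfix a ha)
      by_contra hno
      simp only [not_exists, Pr, K] at hno
      have hone : ∀ a ∈ A, a • q ≠ q → pv q (c a) = Multiplicative.ofAdd 1 := fun a ha hm =>
        (bit_cases _).resolve_left fun h => hno a ⟨ha, hm, hcq a ha, h⟩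
      have hmulv : ∀ a ∈ A, ∀ b ∈ A, pv q (c (a * b)) = pv q (c a) * pv q (c b) := by
        intro a ha b hb
        induction q using QuotientGroup.induction_on with
        | H r =>
          rw [hpv (hcq _ (mul_mem ha hb)), hpv (hcq a ha), hpv (hcq b hb), ← map_mul]
          refine congrArg φ (Subtype.ext ?_)
          show r⁻¹ * c (a * b) * r = r⁻¹ * c a * r * (r⁻¹ * c b * r)
          rw [hc1 a ha b hb]; group
      have hhalf : ∀ a ∈ A, a • q = q ∨ (a * a₁) • q = q := by
        intro a ha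
        by_contra hn
        push Not at hn
        have h := hmulv a ha a₁ ha₁
        rw [hone a ha hn.1, hone a₁ ha₁ hmove, hone _ (mul_mem ha ha₁) hn.2] at h
        revert h
        decide
      have h1 := hone a₁ ha₁ hmove
      induction q using QuotientGroup.induction_on with
      | H r =>
        rw [hpv (hcq a₁ ha₁), hhyp r (hwmk r ▸ hqA) ⟨a₁, ha₁, fun a ha =>
          (hhalf a ha).imp (smul_mk_eq_iff hH).1 (smul_mk_eq_iff hH).1⟩ _ (hcA a₁ ha₁)] at h1
        exact bit_ne h1.symm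
    refine Finset.prod_involution (fun q _ => Classical.epsilon (Pr q) • q) (fun q hq => ?_) (fun q hq _ => ?_)
      (fun q hq => ?_) (fun q hq => ?_)
    all_goals
      have hqF := Finset.mem_filter.1 hq
      have hqx : x • q = q := (Finset.mem_filter.1 hqF.1).2
      obtain ⟨ha, hmove, hfix, hval⟩ := Classical.epsilon_spec (hex q hqx hqF.2)
      have hE : Pr (Classical.epsilon (Pr q) • q) = Pr q := hPr _ ha q
      generalize haeq : Classical.epsilon (Pr q) = a at *
    · -- the two values cancel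
      have hxa : x • (a • q) = a • q := by
        rw [smul_smul, show x * a = a * (a⁻¹ * x * a) by group, hcx, ← smul_smul, ← smul_smul, hqx, hfix]
      have e : pv (a • q) x = pv q x := by
        induction q using QuotientGroup.induction_on with
        | H r =>
          have hxa' : x • ((a * r : Γ) : Γ ⧸ H) = ((a * r : Γ) : Γ ⧸ H) := hxa
          show pv ((a * r : Γ) : Γ ⧸ H) x = _
          rw [hpv hxa', hpv hqx]
          rw [hpv hfix] at hval
          rw [show (⟨_, hmem hxa'⟩ : ↥H) = ⟨_, hmem hfix⟩ * ⟨_, hmem hqx⟩ from Subtype.ext (by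
            show (a * r)⁻¹ * x * (a * r) = r⁻¹ * c a * r * (r⁻¹ * x * r)
            rw [show (a * r)⁻¹ * x * (a * r) = r⁻¹ * (a⁻¹ * x * a) * r by group, hcx]
            group), map_mul, hval, one_mul]
      rw [e]
      rcases bit_cases (pv q x) with h | h <;> rw [h] <;> decide
    · exact hmove
    · refine Finset.mem_filter.2 ⟨Finset.mem_filter.2 ⟨Finset.mem_univ _, ?_⟩, ?_⟩
      · rw [smul_smul, show x * a = a * (a⁻¹ * x * a) by group, hcx, ← smul_smul, ← smul_smul, hqx, hfix]
      · rw [hwg]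
        intro h
        refine hqF.2 ?_
        have := mul_mem (mul_mem (inv_mem ha) h) ha
        rwa [show a⁻¹ * (a * wq q * a⁻¹) * a = wq q by group] at this
    · show Classical.epsilon (Pr (a • q)) • a • q = q
      rw [hE, haeq, smul_smul, hsq a ha, one_smul]
  rw [hout, mul_one]
  -- the part inside
  rw [Finset.prod_eq_pow_card (b := Multiplicative.ofAdd 1) fun q hq => ?_]
  swap
  · obtain ⟨hqF, hqA⟩ := Finset.mem_filter.1 hq
    have hqx : x • q = q := (Finset.mem_filter.1 hqF).2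
    induction q using QuotientGroup.induction_on with
    | H r =>
      rw [hpv hqx]
      exact hin r (hwmk r ▸ hqA) _
  have hbij : Nat.card {q : Γ ⧸ H // wq q ∈ A} = Nat.card {w : Γ // w ∈ A ∧ IsConj z w} := by
    refine Nat.card_congr (Equiv.ofBijective (fun q => ⟨wq q.1, q.2, isConj_iff.2 ⟨q.1.out, rfl⟩⟩) ⟨?_, ?_⟩)
    · rintro ⟨q, hq⟩ ⟨p, hp⟩ e
      have e' : wq q = wq p := congrArg Subtype.val e
      refine Subtype.ext ?_
      show q = p
      induction q using QuotientGroup.induction_on with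
      | H r =>
        induction p using QuotientGroup.induction_on with
        | H s =>
          rw [hwmk, hwmk] at e'
          rw [QuotientGroup.eq, SetLike.ext_iff.1 hH, Subgroup.mem_centralizer_singleton_iff]
          calc r⁻¹ * s * z = r⁻¹ * (s * z * s⁻¹) * s := by group
            _ = z * (r⁻¹ * s) := by rw [← e']; group
    · rintro ⟨w, hw, hc⟩
      obtain ⟨g, hg⟩ := isConj_iff.1 hc
      exact ⟨⟨(g : Γ ⧸ H), by rw [hwmk, hg]; exact hw⟩, Subtype.ext ((hwmk g).trans hg)⟩
  rw [← hbij] at hodd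
  haveI : Fintype {q : Γ ⧸ H // wq q ∈ A} := Fintype.ofFinite _
  have hmove : 2 ∣ Nat.card {q : Γ ⧸ H // wq q ∈ A ∧ ¬ x • q = q} := by
    refine even_card_of_involution (fun q => ⟨x • q.1, ?_, ?_⟩) (fun q => Subtype.ext ?_) (fun q e => ?_)
    · rw [hwg]; exact hxA _ q.2.1
    · intro h
      exact q.2.2 (smul_left_cancel x h)
    · show x • x • q.1 = q.1
      rw [smul_smul, hx, one_smul]
    · exact q.2.2 (congrArg Subtype.val e)
  have hsplit : Nat.card {q : Γ ⧸ H // wq q ∈ A} =
      (F.filter fun q => wq q ∈ A).card + Nat.card {q : Γ ⧸ H // wq q ∈ A ∧ ¬ x • q = q} := by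
    rw [Nat.card_eq_fintype_card, Nat.card_eq_fintype_card, Fintype.card_subtype, Fintype.card_subtype,
      ← Finset.card_filter_add_card_filter_not (s := Finset.univ.filter fun q => wq q ∈ A) (fun q => x • q = q),
      Finset.filter_filter, Finset.filter_filter, hF, Finset.filter_filter]
    simp only [and_comm]
  obtain ⟨k, hk⟩ := hmove
  obtain ⟨j, hj⟩ := hodd
  obtain ⟨i, hi⟩ : Odd (F.filter fun q => wq q ∈ A).card := by
    rw [Nat.odd_iff]; omega
  rw [hi, pow_succ, pow_mul, show (Multiplicative.ofAdd 1 : Bit) ^ 2 = 1 by decide, one_pow, one_mul]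

end CfsgLib.LargeFischerE
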