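import Cfsg.Agent.LargeFischerE.Fi22.Marks
import Cfsg.Agent.LargeFischerE.Fi22.Parity
import Cfsg.Agent.LargeFischerE.Main
import Cfsg.Agent.PLocal.Thompson

/-!
The centralizer of `t` has a subgroup of index two: the transfer of the parity with which the centralizer of
`t` and `z` moves `u` modulo `⟨tz⟩` is non-trivial.
-/

set_option autoImplicit false
set_option linter.unusedSectionVars false
set_option linter.style.haveILetI false
set_option maxHeartbeats 1000000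

universe v

namespace CfsgLib.LargeFischerE

open Cfsg CfsgLib.LargeFischer

variable {G : Type v} [Group G] [Finite G] {z : G} {Q : Subgroup (Cz z)} [Q.Normal] {D : Data z Q} {C : Coords D}

namespace Pair

variable (P : Pair C)

/-- The four images of `u`. -/
def K4 (a : ZMod 2 × ZMod 2) : G := (if a.1 = 0 then 1 else P.tG) * (if a.2 = 0 then 1 else z)

theorem z_sq (P : Pair C) : z * z = 1 := by rw [← pow_two, ← D.hS.1, pow_orderOf_eq_one]

theorem K4_add (a b : ZMod 2 × ZMod 2) : P.K4 (a + b) = P.K4 a * P.K4 b := by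
  have h1 : z * P.tG = P.tG * z := (z_comm_toG P.t).eq
  obtain ⟨a1, a2⟩ := a
  obtain ⟨b1, b2⟩ := b
  have hd : ∀ e : ZMod 2, e = 0 ∨ e = 1 := by decide
  have h11 : (1 + 1 : ZMod 2) = 0 := by decide
  rcases hd a1 with rfl | rfl <;> rcases hd a2 with rfl | rfl <;>
    rcases hd b1 with rfl | rfl <;> rcases hd b2 with rfl | rfl <;>
    simp [K4, h11, P.tG_sq, P.z_sq, h1, mul_assoc]
  all_goals
    simp [← mul_assoc, h1, P.tG_sq, P.z_sq]
  all_goals
    simp [mul_assoc, P.tG_sq, P.z_sq]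

theorem K4_eq_one {a : ZMod 2 × ZMod 2} (h : P.K4 a = 1) : a = 0 := by
  obtain ⟨a1, a2⟩ := a
  have hd : ∀ e : ZMod 2, e = 0 ∨ e = 1 := by decide
  have ht : P.tG ≠ 1 := fun e => D1_ne_zero C (a := (1, 0)) (by decide) (by
    rw [← P.ht, show P.t = 1 from qIncl_injective Q (e.trans (map_one _).symm), vec_one])
  have hz : z ≠ 1 := fun e => by
    have := D.hS.1
    rw [e, orderOf_one] at this
    norm_num at this
  rcases hd a1 with rfl | rfl <;> rcases hd a2 with rfl | rfl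
  · rfl
  · exact absurd (by simpa [K4] using h) hz
  · exact absurd (by simpa [K4] using h) ht
  · exfalso
    have h' : P.tG * z = 1 := by simpa [K4] using h
    refine not_isConj_of_inA C (P.ht ▸ D1_inA C (by decide)) (isConj_iff.2 ⟨1, ?_⟩)
    calc 1 * z * 1⁻¹ = P.tG * (P.tG * z) := by rw [← mul_assoc P.tG, P.tG_sq]; group
      _ = P.tG := by rw [h', mul_one]

theorem K4_injective : Function.Injective P.K4 := fun a b h => by
  have hd : ∀ e : ZMod 2 × ZMod 2, e + e = 0 := by decide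
  have h1 : P.K4 (a + b) = 1 := by
    rw [P.K4_add, h, ← P.K4_add, hd]
    simp [K4]
  have := P.K4_eq_one h1
  exact (by decide : ∀ a b : ZMod 2 × ZMod 2, a + b = 0 → a = b) a b this

theorem K4_conj {g : G} (hz : g ∈ Cz z) (ht : g * P.tG * g⁻¹ = P.tG) (a : ZMod 2 × ZMod 2) :
    g * P.K4 a * g⁻¹ = P.K4 a := by
  have hgz : g * z * g⁻¹ = z := mul_inv_eq_iff_eq_mul.2 (Subgroup.mem_centralizer_singleton_iff.1 hz)
  have hgz' : g * (if a.2 = 0 then (1 : G) else z) * g⁻¹ = if a.2 = 0 then (1 : G) else z := by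
    split_ifs
    · group
    · exact hgz
  have hgt' : g * (if a.1 = 0 then (1 : G) else P.tG) * g⁻¹ = if a.1 = 0 then (1 : G) else P.tG := by
    split_ifs
    · group
    · exact ht
  show g * (_ * _) * g⁻¹ = _
  calc g * ((if a.1 = 0 then (1 : G) else P.tG) * (if a.2 = 0 then (1 : G) else z)) * g⁻¹
      = g * (if a.1 = 0 then (1 : G) else P.tG) * g⁻¹ * (g * (if a.2 = 0 then (1 : G) else z) * g⁻¹) := by group
    _ = _ := by rw [hgz', hgt']; rfl

/-- An element fixing `z` and `t` moves `u` by an element of `⟨t, z⟩`. -/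
theorem exists_K4 {g : G} (hz : g ∈ Cz z) (ht : g * P.tG * g⁻¹ = P.tG) :
    ∃ a, g * P.uG * g⁻¹ = P.K4 a * P.uG := by
  set h : Cz z := ⟨g, hz⟩
  have htq : conjIn h P.t = P.t := qIncl_injective Q (by
    show toG (conjIn h P.t) = toG P.t
    rw [conjIn_toG]; exact ht)
  have hv : act (QuotientGroup.mk h : Cz z ⧸ Q) (vec P.t) = vec P.t := by
    rw [act_mk D.hS, actC_vec, htq]
  have hxu : vec P.u = LargeFischerJ.xm D (vec P.t) := by
    rw [P.hu, P.ht, D1_one, D1_om]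
  have hcase : vec (conjIn h P.u) = vec P.u ∨ vec (conjIn h P.u) = vec (P.t * P.u) := by
    rw [← actC_vec, ← act_mk D.hS, hxu]
    by_cases hL : (QuotientGroup.mk h : Cz z ⧸ Q) ∈ D.L
    · left
      rw [LargeFischerJ.xm_comm D hL, hv]
    · right
      rw [LargeFischerJ.xm_twist D hL, hv, LargeFischerJ.xm_sum D, vec_mul, hxu, add_comm]
  have key : ∀ r : Q, vec (conjIn h P.u) = vec r → ∃ e : ZMod 2, g * P.uG * g⁻¹ = P.K4 (0, e) * toG r := by
    intro r hr
    have hc := (vec_eq_iff D.hS).1 hr.symm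
    have hcomm : z * toG r = toG r * z := (z_comm_toG r).eq
    rcases (mem_center_cases D.hS).1 hc with e | e
    · refine ⟨0, ?_⟩
      rw [show g * P.uG * g⁻¹ = toG (conjIn h P.u) from (conjIn_toG h P.u).symm, (inv_mul_eq_one.1 e).symm]
      simp [K4]
    · refine ⟨1, ?_⟩
      rw [show g * P.uG * g⁻¹ = toG (conjIn h P.u) from (conjIn_toG h P.u).symm, inv_mul_eq_iff_eq_mul.1 e,
        toG_mul, zin_toG D]
      simp [K4, hcomm]
  rcases hcase with e | e
  · obtain ⟨e', he⟩ := key P.u e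
    exact ⟨(0, e'), he⟩
  · obtain ⟨e', he⟩ := key (P.t * P.u) e
    refine ⟨(1, e'), he.trans ?_⟩
    rw [toG_mul, ← mul_assoc]
    congr 1
    have h1 : z * P.tG = P.tG * z := (z_comm_toG P.t).eq
    simp only [K4]
    split_ifs <;> simp_all

/-- The centralizer of `t`. -/
abbrev Ct : Subgroup G := Subgroup.centralizer ({P.tG} : Set G)

theorem conj_t (g : P.Ct) : (g : G) * P.tG * (g : G)⁻¹ = P.tG :=
  mul_inv_eq_iff_eq_mul.2 (Subgroup.mem_centralizer_singleton_iff.1 g.2)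

/-- `z` in the centralizer of `t`. -/
def zC : P.Ct := ⟨z, Subgroup.mem_centralizer_singleton_iff.2 (z_comm_toG P.t).eq⟩

/-- The centralizer of `z` there. -/
abbrev Hz : Subgroup P.Ct := Subgroup.centralizer ({P.zC} : Set P.Ct)

theorem mem_Hz {g : P.Ct} : g ∈ P.Hz ↔ (g : G) ∈ Cz z := by
  rw [Subgroup.mem_centralizer_singleton_iff, Subtype.ext_iff]
  exact Subgroup.mem_centralizer_singleton_iff.symm

theorem exists_disp (g : P.Hz) : ∃ a, ((g : P.Ct) : G) * P.uG * ((g : P.Ct) : G)⁻¹ = P.K4 a * P.uG :=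
  P.exists_K4 (P.mem_Hz.1 g.2) (P.conj_t g.1)

/-- The displacement of `u`. -/
noncomputable def disp (g : P.Hz) : ZMod 2 × ZMod 2 := (P.exists_disp g).choose

theorem disp_spec (g : P.Hz) : ((g : P.Ct) : G) * P.uG * ((g : P.Ct) : G)⁻¹ = P.K4 (P.disp g) * P.uG :=
  (P.exists_disp g).choose_spec

theorem disp_mul (g h : P.Hz) : P.disp (g * h) = P.disp g + P.disp h := by
  refine P.K4_injective (mul_right_cancel (b := P.uG) ?_)
  rw [← P.disp_spec (g * h), add_comm (P.disp g), P.K4_add]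
  simp only [Subgroup.coe_mul]
  have hgh := P.K4_conj (P.mem_Hz.1 g.2) (P.conj_t g.1) (P.disp h)
  calc ((g : P.Ct) : G) * ((h : P.Ct) : G) * P.uG * (((g : P.Ct) : G) * ((h : P.Ct) : G))⁻¹
      = ((g : P.Ct) : G) * (((h : P.Ct) : G) * P.uG * ((h : P.Ct) : G)⁻¹) * ((g : P.Ct) : G)⁻¹ := by group
    _ = ((g : P.Ct) : G) * (P.K4 (P.disp h) * P.uG) * ((g : P.Ct) : G)⁻¹ := by rw [P.disp_spec h]
    _ = (((g : P.Ct) : G) * P.K4 (P.disp h) * ((g : P.Ct) : G)⁻¹) *
          (((g : P.Ct) : G) * P.uG * ((g : P.Ct) : G)⁻¹) := by group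
    _ = _ := by rw [hgh, P.disp_spec g, ← mul_assoc]

theorem disp_one : P.disp 1 = 0 := by
  have h := P.disp_mul 1 1
  rw [mul_one] at h
  simpa using h

/-- The parity. -/
noncomputable def par : P.Hz →* Bit where
  toFun g := Multiplicative.ofAdd ((P.disp g).1 + (P.disp g).2)
  map_one' := by rw [P.disp_one]; rfl
  map_mul' g h := by
    rw [P.disp_mul, Prod.fst_add, Prod.snd_add, ← ofAdd_add]
    congr 1
    abel

theorem par_eq_one_iff (g : P.Hz) : P.par g = 1 ↔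
    (((g : P.Ct) : G) * P.uG * ((g : P.Ct) : G)⁻¹ = P.uG ∨
      ((g : P.Ct) : G) * P.uG * ((g : P.Ct) : G)⁻¹ = P.tG * (P.uG * z)) := by
  have e0 : P.K4 0 * P.uG = P.uG := by simp [K4]
  have e1 : P.K4 (1, 1) * P.uG = P.tG * (P.uG * z) := by
    simp [K4, mul_assoc, (z_comm_toG P.u).eq]
  show Multiplicative.ofAdd _ = Multiplicative.ofAdd 0 ↔ _
  rw [Multiplicative.ofAdd.injective.eq_iff, P.disp_spec g, ← e1]
  conv_rhs => arg 1; rhs; rw [← e0]
  simp only [mul_left_inj, P.K4_injective.eq_iff]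
  generalize P.disp g = a
  revert a
  decide

theorem par_cases (g : P.Hz) :
    (((g : P.Ct) : G) * P.uG * ((g : P.Ct) : G)⁻¹ = P.uG) ∨
    (((g : P.Ct) : G) * P.uG * ((g : P.Ct) : G)⁻¹ = P.uG * z) ∨
    (((g : P.Ct) : G) * P.uG * ((g : P.Ct) : G)⁻¹ = P.tG * P.uG) ∨
    (((g : P.Ct) : G) * P.uG * ((g : P.Ct) : G)⁻¹ = P.tG * (P.uG * z)) := by
  rw [P.disp_spec g]
  obtain ⟨a1, a2⟩ := P.disp g
  have hd : ∀ e : ZMod 2, e = 0 ∨ e = 1 := by decide
  rcases hd a1 with rfl | rfl <;> rcases hd a2 with rfl | rfl <;>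
    simp [K4, mul_assoc, (z_comm_toG P.u).eq]

variable {T1 : Sylow 2 (Cz z)} {B : Subgroup (Cz z)}

/-- Two large elementary abelian subgroups of one 2-subgroup coincide. -/
theorem eq_of_le_two (hA : LargeFischerJ.Anchor C T1 B) {S E₁ E₂ : Subgroup G} (hS : IsPGroup 2 S)
    (h1 : E₁ ≤ S) (h2 : E₂ ≤ S) (he1 : Cfsg.IsElementaryAbelian 2 E₁) (he2 : Cfsg.IsElementaryAbelian 2 E₂)
    (c1 : 2048 ≤ Nat.card E₁) (c2 : 2048 ≤ Nat.card E₂) : E₁ = E₂ := by
  haveI : Fact (Nat.Prime 2) := ⟨Nat.prime_two⟩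
  obtain ⟨S0, hS0⟩ := hS.exists_le_sylow
  obtain ⟨S1, hS1⟩ := hA.exists_sylow
  obtain ⟨g, hg⟩ := MulAction.exists_smul_eq G S0 S1
  have key : ∀ E : Subgroup G, E ≤ S → Cfsg.IsElementaryAbelian 2 E → 2048 ≤ Nat.card E →
      E.map (MulAut.conj g).toMonoidHom = Ag B := by
    intro E hE he hc
    refine hA.uniq_A ?_ (LargeFischerJ.isElementaryAbelian_map he _) ?_
    · rw [← hS1, ← hg, Sylow.coe_subgroup_smul]
      rintro _ ⟨a, ha, rfl⟩
      exact ⟨a, hS0 (hE ha), rfl⟩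
    · rwa [Subgroup.card_map_of_injective (MulAut.conj g).injective]
  exact Subgroup.map_injective (MulAut.conj g).injective ((key E₁ h1 he1 c1).trans (key E₂ h2 he2 c2).symm)

/-- A large elementary abelian group containing `t` and centralizing `z` contains `u`. -/
theorem uG_mem (hA : LargeFischerJ.Anchor C T1 B) {E : Subgroup G} (he : Cfsg.IsElementaryAbelian 2 E)
    (hc : 2048 ≤ Nat.card E) (hz : E ≤ Cz z) (ht : P.tG ∈ E) : P.uG ∈ E := by
  haveI : Fact (Nat.Prime 2) := ⟨Nat.prime_two⟩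
  set E' := E.subgroupOf (Cz z) with hE'
  have hEp : IsPGroup 2 E' :=
    (CfsgLib.PLocal.isPGroup_of_isElementaryAbelian he).comap_of_injective _ (Cz z).subtype_injective
  obtain ⟨S0, hS0⟩ := hEp.exists_le_sylow
  obtain ⟨h, hh⟩ := MulAction.exists_smul_eq (Cz z) S0 T1
  have hmap : E'.map (MulAut.conj h).toMonoidHom = B := by
    haveI := he.1
    refine hA.uniq _ ?_ ?_ ?_ ?_
    · rw [← hh, Sylow.coe_subgroup_smul]
      rintro _ ⟨a, ha, rfl⟩
      exact ⟨a, hS0 ha, rfl⟩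
    · rintro _ ⟨a, ha, rfl⟩ _ ⟨b, hb, rfl⟩
      rw [← map_mul, ← map_mul]
      exact congrArg _ (Subtype.ext (congrArg Subtype.val (mul_comm' (⟨_, ha⟩ : E) ⟨_, hb⟩) :))
    · rintro _ ⟨a, ha, rfl⟩
      rw [← map_pow, show a ^ 2 = 1 from Subtype.ext (by rw [SubgroupClass.coe_pow]; exact he.2 _ ha), map_one]
    · rwa [Subgroup.card_map_of_injective (MulAut.conj h).injective,
        Nat.card_congr (Subgroup.subgroupOfEquivOfLe hz).toEquiv]
  have hB : ∀ q : Q, ((q : Cz z) : G) ∈ E ↔ ((conjIn h q : Q) : Cz z) ∈ B := by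
    intro q
    rw [← hmap, Subgroup.mem_map]
    constructor
    · exact fun hq => ⟨(q : Cz z), hq, (conjIn_coe h q).symm⟩
    · rintro ⟨a, ha, e⟩
      rw [conjIn_coe] at e
      have : a = (q : Cz z) := (MulAut.conj h).injective e
      rw [← this]; exact ha
  have h1 := (hA.memQ _).1 ((hB P.t).1 ht)
  refine (hB P.u).2 ((hA.memQ _).2 ?_)
  have hxu : vec P.u = LargeFischerJ.xm D (vec P.t) := by
    rw [P.hu, P.ht, D1_one, D1_om]
  rw [← actC_vec, ← act_mk D.hS] at h1 ⊢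
  rw [hxu]
  by_cases hL : (QuotientGroup.mk h : Cz z ⧸ Q) ∈ D.L
  · rw [LargeFischerJ.xm_comm D hL]
    exact LargeFischerJ.planeS_xm (C := C) _ h1
  · rw [LargeFischerJ.xm_twist D hL]
    exact LargeFischerJ.planeS_xm (C := C) _ (LargeFischerJ.planeS_xm (C := C) _ h1)

theorem tG_mem_Ag (hA : LargeFischerJ.Anchor C T1 B) : P.tG ∈ Ag B := (P.others_facts hA).1.1

/-- Conjugates of `z` in the group, inside the centralizer of `t`, are conjugate by its stabiliser. -/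
theorem exists_fusion (hA : LargeFischerJ.Anchor C T1 B) {r : P.Ct}
    (hr : (r : G) * z * (r : G)⁻¹ ∈ Ag B) :
    ∃ s ∈ P.St B, s * z * s⁻¹ = (r : G) * z * (r : G)⁻¹ := by
  haveI : Fact (Nat.Prime 2) := ⟨Nat.prime_two⟩
  have L := hA.layer
  set A := Ag B with hAdef
  set H := Cz z ⊓ P.Ct with hH
  have hel := hA.elem_A
  have hAH : A ≤ H := fun a ha => ⟨Subgroup.mem_centralizer_singleton_iff.2 (L.comm ha L.z_mem),
    Subgroup.mem_centralizer_singleton_iff.2 (L.comm ha (P.tG_mem_Ag hA))⟩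
  set A' := A.map (MulAut.conj (r : G)⁻¹).toMonoidHom with hA'
  have hA'H : A' ≤ H := by
    rintro _ ⟨a, ha, rfl⟩
    have e1 := L.comm ha hr
    have e2 : a * P.tG = P.tG * a := L.comm ha (P.tG_mem_Ag hA)
    have e3 := P.conj_t r
    refine ⟨Subgroup.mem_centralizer_singleton_iff.2 ?_, Subgroup.mem_centralizer_singleton_iff.2 ?_⟩
    · show (r : G)⁻¹ * a * (r : G)⁻¹⁻¹ * z = z * ((r : G)⁻¹ * a * (r : G)⁻¹⁻¹)
      calc (r : G)⁻¹ * a * (r : G)⁻¹⁻¹ * z = (r : G)⁻¹ * (a * ((r : G) * z * (r : G)⁻¹)) * r := by group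
        _ = (r : G)⁻¹ * ((r : G) * z * (r : G)⁻¹ * a) * r := by rw [e1]
        _ = _ := by group
    · show (r : G)⁻¹ * a * (r : G)⁻¹⁻¹ * P.tG = P.tG * ((r : G)⁻¹ * a * (r : G)⁻¹⁻¹)
      calc (r : G)⁻¹ * a * (r : G)⁻¹⁻¹ * P.tG = (r : G)⁻¹ * (a * ((r : G) * P.tG * (r : G)⁻¹)) * r := by group
        _ = (r : G)⁻¹ * ((r : G) * P.tG * (r : G)⁻¹ * a) * r := by rw [e3, e2]
        _ = _ := by group
  have hcA' : Nat.card A' = 2048 := by
    rw [hA', Subgroup.card_map_of_injective (MulAut.conj (r : G)⁻¹).injective, hA.card_A]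
  have hp : ∀ {E : Subgroup G}, Cfsg.IsElementaryAbelian 2 E → IsPGroup 2 (E.subgroupOf H) := fun {E} he =>
    (CfsgLib.PLocal.isPGroup_of_isElementaryAbelian he).comap_of_injective _ H.subtype_injective
  have hel' : Cfsg.IsElementaryAbelian 2 A' := LargeFischerJ.isElementaryAbelian_map hel _
  obtain ⟨S, hS⟩ := (hp hel).exists_le_sylow
  obtain ⟨S', hS'⟩ := (hp hel').exists_le_sylow
  obtain ⟨h, hh⟩ := MulAction.exists_smul_eq H S S'
  have key : A.map (MulAut.conj (h : G)).toMonoidHom = A' := by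
    refine eq_of_le_two hA (S'.isPGroup'.map H.subtype) ?_ ?_ (LargeFischerJ.isElementaryAbelian_map hel _) hel'
      (by rw [Subgroup.card_map_of_injective (MulAut.conj (h : G)).injective, hA.card_A]) hcA'.ge
    · rintro _ ⟨a, ha, rfl⟩
      refine ⟨h * ⟨a, hAH ha⟩ * h⁻¹, ?_, rfl⟩
      rw [← hh, Sylow.coe_subgroup_smul]
      exact ⟨⟨a, hAH ha⟩, hS (Subgroup.mem_subgroupOf.2 ha), rfl⟩
    · intro a ha
      exact ⟨⟨a, hA'H ha⟩, hS' (Subgroup.mem_subgroupOf.2 ha), rfl⟩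
  refine ⟨(r : G) * h, ⟨Subgroup.mem_normalizer_fintype fun a ha => ?_, mul_mem r.2 h.2.2⟩, ?_⟩
  · have : (h : G) * a * (h : G)⁻¹ ∈ A' := key ▸ ⟨a, ha, rfl⟩
    obtain ⟨b, hb, e⟩ := this
    have e' : (r : G)⁻¹ * b * (r : G)⁻¹⁻¹ = (h : G) * a * (h : G)⁻¹ := e
    show (r : G) * h * a * ((r : G) * h)⁻¹ ∈ A
    rwa [show (r : G) * h * a * ((r : G) * h)⁻¹ = (r : G) * ((h : G) * a * (h : G)⁻¹) * (r : G)⁻¹ by group,
      ← e', show (r : G) * ((r : G)⁻¹ * b * (r : G)⁻¹⁻¹) * (r : G)⁻¹ = b by group]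
  · calc (r : G) * h * z * ((r : G) * h)⁻¹ = (r : G) * ((h : G) * z * (h : G)⁻¹) * (r : G)⁻¹ := by group
      _ = _ := by rw [Subgroup.mem_centralizer_singleton_iff.1 h.2.1, mul_inv_cancel_right]

end Pair

/-- The parity transfers non-trivially at the flip. -/
theorem Marks.transfer_flip {P : Pair C} {T1 : Sylow 2 (Cz z)} {B : Subgroup (Cz z)} (M : Marks P B)
    (hA : LargeFischerJ.Anchor C T1 B) (x : P.Ct) (hxS : (x : G) ∈ P.St B) (hxz : (x : G) ∈ Cz z)
    (hx2 : (x : G) * x = 1) (hxu : (x : G) * P.uG * (x : G)⁻¹ = P.uG * z) :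
    MonoidHom.transfer P.par x = Multiplicative.ofAdd 1 := by
  classical
  haveI : Fact (Nat.Prime 2) := ⟨Nat.prime_two⟩
  have L := hA.layer
  set A := Ag B with hAdef
  have hel := hA.elem_A
  have htA := P.tG_mem_Ag hA
  have hAsq : ∀ a ∈ A, a * a = 1 := fun a ha => by rw [← pow_two]; exact hel.2 a ha
  have hnf : ¬ M.Fixes (x : G) := by
    rw [M.fixes_iff hA hxS (Or.inr (Or.inl hxu)), hxu]
    obtain ⟨-, -, -, -, huz, -⟩ := P.others_facts hA
    rintro (e | e)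
    · exact L.z_ne (mul_eq_left.1 e)
    · exact (P.others_facts hA).1.2.1 (right_eq_mul.1 e)
  refine transfer_parity P.zC x rfl P.par (A.subgroupOf P.Ct)
    (fun a ha b hb => Subtype.ext (L.comm ha hb)) (fun a ha => Subtype.ext (hAsq _ ha)) (Subtype.ext hx2)
    (fun a ha => ?_) (fun r hr => ?_) (fun r hr hhalf b hb h => ?_) (fun r hr h => ?_) ?_
  · exact L.conj_mem hxS.1 ha
  · -- a conjugate centralizing the group lies in it
    show (r : G) * z * (r : G)⁻¹ ∈ A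
    set w := (r : G) * z * (r : G)⁻¹ with hw
    have hwc : ∀ a ∈ A, a * w = w * a := fun a ha =>
      congrArg Subtype.val (hr ⟨a, Subgroup.mem_centralizer_singleton_iff.2 (L.comm ha htA)⟩ ha).eq
    by_contra hn
    have hwC : w ∈ Subgroup.centralizer (A : Set G) := Subgroup.mem_centralizer_iff.2 hwc
    exact hn (L.cent hwC)
  · -- a hyperplane
    obtain ⟨a₀, ha₀, hhalf⟩ := hhalf
    set w := (r : G) * z * (r : G)⁻¹ with hw
    have hwA : w ∉ A := hr
    have hz2 := P.z_sq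
    have hw2 : w * w = 1 := by
      rw [hw, show (r : G) * z * (r : G)⁻¹ * ((r : G) * z * (r : G)⁻¹) = (r : G) * (z * z) * (r : G)⁻¹ by group,
        hz2, mul_one, mul_inv_cancel]
    set B₁ := A ⊓ Subgroup.centralizer ({w} : Set G) with hB₁
    have hwA' : ∀ {a : G}, a ∈ B₁ → Commute a w := fun {a} ha =>
      Subgroup.mem_centralizer_singleton_iff.1 ha.2
    -- the group spanned with the conjugate
    let E : Subgroup G :=
      { carrier := {g | g ∈ B₁ ∨ g * w ∈ B₁}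
        one_mem' := Or.inl (one_mem _)
        mul_mem' := by
          rintro g k (hg | hg) (hk | hk)
          · exact Or.inl (mul_mem hg hk)
          · exact Or.inr (by rw [mul_assoc]; exact mul_mem hg hk)
          · refine Or.inr ?_
            rw [mul_assoc, (hwA' hk).eq, ← mul_assoc]
            exact mul_mem hg hk
          · refine Or.inl ?_
            have := mul_mem hg hk
            have hkw : Commute k w := by
              have := (hwA' hk).mul_left (show Commute w⁻¹ w from (Commute.refl w).inv_left)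
              rwa [mul_inv_cancel_right] at this
            rwa [show g * w * (k * w) = g * k * (w * w) by
              rw [mul_assoc, ← mul_assoc w, ← hkw.eq]; simp only [mul_assoc], hw2, mul_one] at this
        inv_mem' := by
          rintro g (hg | hg)
          · exact Or.inl (inv_mem hg)
          · refine Or.inr ?_
            have h := inv_mem hg
            rw [_root_.mul_inv_rev, inv_eq_of_mul_eq_one_right hw2] at h
            have hc := hwA' h
            have e : g⁻¹ * w = w * g⁻¹ := by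
              calc g⁻¹ * w = w * (w * g⁻¹ * w) := by
                    simp only [← mul_assoc, hw2, one_mul]
                _ = w * (w * (w * g⁻¹)) := by rw [hc.eq]
                _ = w * g⁻¹ := by simp only [← mul_assoc, hw2, one_mul]
            rwa [e] }
    have hmemE : ∀ {g : G}, g ∈ E → ∃ k ∈ B₁, g = k ∨ g = k * w := by
      rintro g (hg | hg)
      · exact ⟨g, hg, Or.inl rfl⟩
      · exact ⟨_, hg, Or.inr (by rw [mul_assoc, hw2, mul_one])⟩
    have hEel : Cfsg.IsElementaryAbelian 2 E := by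
      refine ⟨⟨⟨fun g k => Subtype.ext ?_⟩⟩, fun g hg => ?_⟩
      · show (g : G) * k = k * g
        obtain ⟨g', hg', eg⟩ := hmemE g.2
        obtain ⟨k', hk', ek⟩ := hmemE k.2
        have hgk : Commute g' k' := L.comm hg'.1 hk'.1
        have hgw := hwA' hg'
        have hkw := hwA' hk'
        rcases eg with e | e <;> rcases ek with e' | e' <;> rw [e, e']
        · exact hgk.eq
        · exact (hgk.mul_right hgw).eq
        · exact (hgk.mul_left hkw.symm).eq
        · exact ((hgk.mul_right hgw).mul_left (hkw.symm.mul_right (Commute.refl w))).eq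
      · obtain ⟨g', hg', eg⟩ := hmemE hg
        have hgw := hwA' hg'
        rw [pow_two]
        rcases eg with rfl | rfl
        · exact hAsq _ hg'.1
        · rw [hgw.symm.mul_mul_mul_comm, hAsq _ hg'.1, hw2, one_mul]
    have hwB : w ∉ B₁ := fun h => hwA h.1
    have hcard : 2048 ≤ Nat.card E := by
      have hhalf' : ∀ a ∈ A, a ∈ B₁ ∨ a * (a₀ : G) ∈ B₁ := by
        intro a ha
        rcases hhalf ⟨a, Subgroup.mem_centralizer_singleton_iff.2 (L.comm ha htA)⟩ ha with e | e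
        · exact Or.inl ⟨ha, Subgroup.mem_centralizer_singleton_iff.2 (congrArg Subtype.val e.eq)⟩
        · exact Or.inr ⟨mul_mem ha ha₀, Subgroup.mem_centralizer_singleton_iff.2 (congrArg Subtype.val e.eq)⟩
      let f : A → E := fun a => if h : (a : G) ∈ B₁ then ⟨a, Or.inl h⟩ else
        ⟨(a : G) * a₀ * w, Or.inr (by
          rw [mul_assoc, hw2, mul_one]
          exact (hhalf' a a.2).resolve_left h)⟩
      have hf : Function.Injective f := by
        intro a b e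
        have e' := congrArg Subtype.val e
        simp only [f] at e'
        split_ifs at e' with h1 h2 h2
        · exact Subtype.ext e'
        · refine absurd ?_ hwA
          have e'' : w = ((b : G) * a₀)⁻¹ * a := by
            rw [show ((a : A) : G) = (b : G) * a₀ * w from e']; group
          rw [e'']
          exact mul_mem (inv_mem (mul_mem b.2 ha₀)) a.2
        · refine absurd ?_ hwA
          have e'' : w = ((a : G) * a₀)⁻¹ * b := by
            rw [← show (a : G) * a₀ * w = ((b : A) : G) from e']; group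
          rw [e'']
          exact mul_mem (inv_mem (mul_mem a.2 ha₀)) b.2
        · exact Subtype.ext (mul_right_cancel (mul_right_cancel e'))
      rw [← hA.card_A]
      exact Nat.card_le_card_of_injective f hf
    set E' := E.map (MulAut.conj (r : G)⁻¹).toMonoidHom with hE'
    have hzE : ∀ g ∈ E, Commute g w := fun g hg => by
      obtain ⟨k, hk, e | e⟩ := hmemE hg <;> rw [e]
      exacts [hwA' hk, (hwA' hk).mul_left (Commute.refl w)]
    have hu := P.uG_mem hA (E := E') (LargeFischerJ.isElementaryAbelian_map hEel _)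
      (by rwa [hE', Subgroup.card_map_of_injective (MulAut.conj (r : G)⁻¹).injective])
      (by
        rintro _ ⟨g, hg, rfl⟩
        refine Subgroup.mem_centralizer_singleton_iff.2 ?_
        show (r : G)⁻¹ * g * (r : G)⁻¹⁻¹ * z = z * ((r : G)⁻¹ * g * (r : G)⁻¹⁻¹)
        calc (r : G)⁻¹ * g * (r : G)⁻¹⁻¹ * z = (r : G)⁻¹ * (g * w) * r := by rw [hw]; group
          _ = (r : G)⁻¹ * (w * g) * r := by rw [(hzE g hg).eq]
          _ = _ := by rw [hw]; group)
      ⟨P.tG, Or.inl ⟨htA, Subgroup.mem_centralizer_singleton_iff.2 (by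
        show P.tG * w = w * P.tG
        rw [hw]
        calc P.tG * ((r : G) * z * (r : G)⁻¹) = (r : G) * P.tG * (r : G)⁻¹ * ((r : G) * z * (r : G)⁻¹) := by
              rw [P.conj_t r]
          _ = (r : G) * (P.tG * z) * (r : G)⁻¹ := by group
          _ = (r : G) * (z * P.tG) * (r : G)⁻¹ := by rw [(Pair.z_comm_toG P.t).eq]
          _ = (r : G) * z * (r : G)⁻¹ * ((r : G) * P.tG * (r : G)⁻¹) := by group
          _ = _ := by rw [P.conj_t r])⟩, by
        show (r : G)⁻¹ * P.tG * (r : G)⁻¹⁻¹ = P.tG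
        have := P.conj_t r⁻¹
        exact this⟩
    rw [P.par_eq_one_iff]
    left
    have hbE : (r : G)⁻¹ * (b : G) * (r : G) ∈ E' := by
      refine ⟨b, Or.inl ⟨hb, ?_⟩, by show (r : G)⁻¹ * (b : G) * (r : G)⁻¹⁻¹ = _; rw [inv_inv]⟩
      have h' : (((r⁻¹ * b * r : P.Ct) : G)) ∈ Cz z := P.mem_Hz.1 h
      show (b : G) ∈ Subgroup.centralizer ({w} : Set G)
      rw [Subgroup.mem_centralizer_singleton_iff] at h' ⊢
      simp only [Subgroup.coe_mul, Subgroup.coe_inv] at h'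
      rw [hw]
      calc (b : G) * ((r : G) * z * (r : G)⁻¹) = (r : G) * ((r : G)⁻¹ * b * r * z) * (r : G)⁻¹ := by group
        _ = (r : G) * (z * ((r : G)⁻¹ * b * r)) * (r : G)⁻¹ := by rw [h']
        _ = _ := by group
    have hc := congrArg Subtype.val ((LargeFischerJ.isElementaryAbelian_map hEel
      (MulAut.conj (r : G)⁻¹).toMonoidHom).1.1.1 ⟨_, hbE⟩ ⟨_, hu⟩)
    exact mul_inv_eq_iff_eq_mul.2 hc
  · -- the conjugates inside
    obtain ⟨s, hs, hsz⟩ := P.exists_fusion hA hr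
    have hxs : (s⁻¹ * (x : G) * s) ∈ Cz z := by
      have h' : ((r⁻¹ * x * r : P.Ct) : G) ∈ Cz z := P.mem_Hz.1 h
      rw [Subgroup.mem_centralizer_singleton_iff] at h' ⊢
      simp only [Subgroup.coe_mul, Subgroup.coe_inv] at h'
      calc s⁻¹ * x * s * z = s⁻¹ * x * (s * z * s⁻¹) * s := by group
        _ = s⁻¹ * (r : G) * ((r : G)⁻¹ * x * r * z) * (r : G)⁻¹ * s := by rw [hsz]; group
        _ = s⁻¹ * (r : G) * (z * ((r : G)⁻¹ * x * r)) * (r : G)⁻¹ * s := by rw [h']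
        _ = s⁻¹ * (s * z * s⁻¹) * x * s := by rw [hsz]; group
        _ = z * (s⁻¹ * x * s) := by group
    have hys : s⁻¹ * (x : G) * s ∈ P.St B := mul_mem (mul_mem (inv_mem hs) hxS) hs
    set sC : P.Ct := ⟨s, hs.2⟩ with hsC
    have hk : sC⁻¹ * r ∈ P.Hz := by
      rw [P.mem_Hz, Subgroup.mem_centralizer_singleton_iff]
      show s⁻¹ * (r : G) * z = z * (s⁻¹ * r)
      calc s⁻¹ * (r : G) * z = s⁻¹ * ((r : G) * z * (r : G)⁻¹) * r := by group
        _ = _ := by rw [← hsz]; group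
    have hy : sC⁻¹ * x * sC ∈ P.Hz := P.mem_Hz.2 hxs
    have e : P.par ⟨_, h⟩ = P.par ⟨_, hy⟩ := by
      rw [show (⟨_, h⟩ : P.Hz) = ⟨_, hk⟩⁻¹ * ⟨_, hy⟩ * ⟨_, hk⟩ from Subtype.ext (by
        show r⁻¹ * x * r = (sC⁻¹ * r)⁻¹ * (sC⁻¹ * x * sC) * (sC⁻¹ * r)
        group), map_mul, map_mul, map_inv, mul_comm, mul_inv_cancel_left]
    rw [e]
    refine (bit_cases _).resolve_left fun h1 => hnf ?_
    have h2 := (M.fixes_iff hA hys (P.par_cases ⟨_, hy⟩)).2 ((P.par_eq_one_iff ⟨_, hy⟩).1 h1)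
    have hsinv := M.fixes_mul_iff hA (inv_mem hs) hs
    rw [inv_mul_cancel] at hsinv
    rw [M.fixes_mul_iff hA (mul_mem (inv_mem hs) hxS) hs, M.fixes_mul_iff hA (inv_mem hs) hxS] at h2
    have h3 := hsinv.1 M.fixes_one
    tauto
  · -- their number
    have hcount : Nat.card {w : P.Ct // w ∈ A.subgroupOf P.Ct ∧ IsConj P.zC w} =
        Nat.card (orb (P.St B) (P.tG * z)) := by
      refine Nat.card_congr (Equiv.ofBijective (fun w => ⟨P.tG * (w.1 : G), ?_⟩) ⟨?_, ?_⟩)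
      · obtain ⟨g, hg⟩ := isConj_iff.1 w.2.2
        have e : (g : G) * z * (g : G)⁻¹ = (w.1 : G) := congrArg Subtype.val hg
        obtain ⟨s, hs, hsz⟩ := P.exists_fusion hA (r := g) (by rw [e]; exact w.2.1)
        refine ⟨s, hs, ?_⟩
        have hst : s * P.tG * s⁻¹ = P.tG := P.conj_t ⟨s, hs.2⟩
        calc s * (P.tG * z) * s⁻¹ = s * P.tG * s⁻¹ * (s * z * s⁻¹) := by group
          _ = _ := by rw [hst, hsz, e]
      · intro a b e
        exact Subtype.ext (Subtype.ext (mul_left_cancel (congrArg Subtype.val e)))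
      · rintro ⟨v, s, hs, rfl⟩
        have hst : s * P.tG * s⁻¹ = P.tG := P.conj_t ⟨s, hs.2⟩
        refine ⟨⟨⟨s, hs.2⟩ * P.zC * ⟨s, hs.2⟩⁻¹, L.conj_mem hs.1 L.z_mem, isConj_iff.2 ⟨_, rfl⟩⟩, Subtype.ext ?_⟩
        show P.tG * (s * z * s⁻¹) = s * (P.tG * z) * s⁻¹
        rw [← mul_left_inj (s * z * s⁻¹)⁻¹]
        calc P.tG * (s * z * s⁻¹) * (s * z * s⁻¹)⁻¹ = P.tG := by group
          _ = s * P.tG * s⁻¹ := hst.symm
          _ = _ := by group
    rw [hcount, M.odd]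
    decide

/-- A homomorphism to the group of order two killing the centralizer of the four-group. -/
theorem exists_sign (rec : RecU62.{v}) {T1 : Sylow 2 (Cz z)} {B : Subgroup (Cz z)}
    (hA : LargeFischerJ.Anchor C T1 B) (P : Pair C) :
    ∃ V : P.Ct →* Bit, (∀ g : P.Ct, (g : G) ∈ P.EC → V g = 1) ∧
      (∃ m : P.Ct, (m : G) * P.uG * (m : G)⁻¹ = P.tG * P.uG ∧ V m = Multiplicative.ofAdd 1) ∧
      ∃ n : P.Ct, (n : G) * P.uG * (n : G)⁻¹ = P.tG * (P.uG * z) ∧ V n = 1 := by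
  obtain ⟨M⟩ := exists_marks P hA
  obtain ⟨hqs, -, -⟩ := P.ec_facts rec hA
  set V : P.Ct →* Bit := MonoidHom.transfer P.par with hV
  have hECle : P.EC ≤ P.Ct := fun g hg => Subgroup.mem_centralizer_singleton_iff.2 (P.mem_EC_iff.1 hg).1
  have hEC : ∀ g : P.Ct, (g : G) ∈ P.EC → V g = 1 := by
    intro g hg
    have hk : (V.comp (Subgroup.inclusion hECle)).ker = ⊤ := top_le_iff.1
      (hqs.1.commutator_eq_top ▸ Abelianization.commutator_subset_ker _)
    have : (⟨g, hg⟩ : P.EC) ∈ (V.comp (Subgroup.inclusion hECle)).ker := hk ▸ Subgroup.mem_top _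
    exact this
  obtain ⟨x, hxS, hxz, hx2, hxu⟩ := P.exists_flip hA
  set xC : P.Ct := ⟨x, hxS.2⟩
  have hVx : V xC = Multiplicative.ofAdd 1 := M.transfer_flip hA xC hxS hxz hx2 hxu
  have hfix : ∀ y (hy : y ∈ P.St B), M.Fixes y → V ⟨y, hy.2⟩ = 1 := by
    intro y hy hf
    obtain ⟨r, hr, y₁, y₂, rfl, h1, h2, c1, c2⟩ := M.exists_factor hA hy hf
    rw [show (⟨y₁ * y₂, hy.2⟩ : P.Ct) = ⟨y₁, h1.2⟩ * ⟨y₂, h2.2⟩ from rfl, map_mul,
      hEC ⟨y₂, h2.2⟩ (P.mem_EC_iff.2 ⟨Subgroup.mem_centralizer_singleton_iff.1 h2.2, c2.eq⟩), mul_one]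
    have e : (⟨y₁, h1.2⟩ : P.Ct) = ⟨r, hr.2⟩ * (⟨r, hr.2⟩⁻¹ * ⟨y₁, h1.2⟩ * ⟨r, hr.2⟩) * ⟨r, hr.2⟩⁻¹ := by group
    rw [e, map_mul, map_mul, hEC (⟨r, hr.2⟩⁻¹ * ⟨y₁, h1.2⟩ * ⟨r, hr.2⟩) (P.mem_EC_iff.2 ⟨?_, ?_⟩), map_inv,
      mul_one, mul_inv_cancel]
    · exact Subgroup.mem_centralizer_singleton_iff.1 ((⟨r, hr.2⟩⁻¹ * ⟨y₁, h1.2⟩ * ⟨r, hr.2⟩ : P.Ct)).2
    · show r⁻¹ * y₁ * r * P.uG = P.uG * (r⁻¹ * y₁ * r)
      calc r⁻¹ * y₁ * r * P.uG = r⁻¹ * (y₁ * (r * P.uG * r⁻¹)) * r := by group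
        _ = r⁻¹ * (r * P.uG * r⁻¹ * y₁) * r := by rw [c1.eq]
        _ = _ := by group
  obtain ⟨m, hmS, hmu, hmf⟩ := M.exists_swap hA
  have hxf : ¬ M.Fixes x := by
    rw [M.fixes_iff hA hxS (Or.inr (Or.inl hxu)), hxu]
    rintro (e | e)
    · exact hA.layer.z_ne (mul_eq_left.1 e)
    · exact (P.others_facts hA).1.2.1 (right_eq_mul.1 e)
  have hprod : V ⟨x * m, (mul_mem hxS hmS).2⟩ = 1 :=
    hfix _ (mul_mem hxS hmS) ((M.fixes_mul_iff hA hxS hmS).2 (iff_of_false hxf hmf))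
  have hVm : V ⟨m, hmS.2⟩ = Multiplicative.ofAdd 1 := by
    rw [show (⟨x * m, (mul_mem hxS hmS).2⟩ : P.Ct) = xC * ⟨m, hmS.2⟩ from rfl, map_mul, hVx] at hprod
    revert hprod
    generalize V ⟨m, hmS.2⟩ = e
    revert e
    decide
  refine ⟨V, hEC, ⟨⟨m, hmS.2⟩, hmu, hVm⟩, ⟨⟨x * m, (mul_mem hxS hmS).2⟩, ?_, hprod⟩⟩
  have hxt : x * P.tG * x⁻¹ = P.tG := P.conj_t xC
  show x * m * P.uG * (x * m)⁻¹ = _
  calc x * m * P.uG * (x * m)⁻¹ = x * (m * P.uG * m⁻¹) * x⁻¹ := by group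
    _ = x * P.tG * x⁻¹ * (x * P.uG * x⁻¹) := by rw [hmu]; group
    _ = _ := by rw [hxt, hxu]

end CfsgLib.LargeFischerE
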