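import Cfsg.Agent.LargeFischerE.Fi22.Main

/-!
The conclusion for every involution of `Q` not conjugate to `z`: all are conjugate in the centralizer of `z`.
-/

set_option autoImplicit false
set_option linter.unusedSectionVars false
set_option linter.style.haveILetI false
set_option maxHeartbeats 1000000

universe v

namespace CfsgLib.LargeFischerE

open Cfsg CfsgLib.LargeFischer

variable {G : Type v} [Group G] [Finite G]

theorem zpowers_normal_centralizer (t : G) :
    ((Subgroup.zpowers t).subgroupOf (Subgroup.centralizer ({t} : Set G))).Normal := zpowers_normal t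

theorem ConclFi22.map {t : G} (h : ConclFi22 t) (f : G ≃* G) : ConclFi22 (f t) := by
  intro hn
  haveI := zpowers_normal_centralizer t
  obtain ⟨hq, hi, ⟨htc, hm⟩, ⟨e⟩⟩ := h
  let c := singletonEquiv f t
  have hF := CfsgLib.Balance.map_generalizedFittingSubgroup_equiv c
  refine ⟨CfsgLib.Components.isQuasisimple_congr (CfsgLib.Balance.fStarEquiv c) hq, ?_,
    ⟨(c ⟨t, htc⟩).2, ?_⟩, ⟨?_⟩⟩
  · rw [← hF, ← hi]
    exact Subgroup.index_map_of_bijective c.bijective _
  · rw [← hF]
    exact ⟨⟨t, htc⟩, hm, rfl⟩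
  · exact (QuotientGroup.congr _ _ c (singletonEquiv_map_zpowers f t)).symm.trans e

theorem ConclKer.map {t : G} (h : ConclKer t) (f : G ≃* G) : ConclKer (f t) := by
  intro hn
  haveI := zpowers_normal_centralizer t
  obtain ⟨⟨e⟩, hU⟩ := h
  refine ⟨⟨?_⟩, hU⟩
  let c := singletonEquiv f t
  let c' := QuotientGroup.congr _ _ c (singletonEquiv_map_zpowers f t)
  set S := (Cfsg.generalizedFittingSubgroup ↥(Subgroup.centralizer ({t} : Set G))).map
    (QuotientGroup.mk' ((Subgroup.zpowers t).subgroupOf (Subgroup.centralizer ({t} : Set G)))) with hS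
  have hmap : S.map c'.toMonoidHom =
      (Cfsg.generalizedFittingSubgroup ↥(Subgroup.centralizer ({f t} : Set G))).map
        (QuotientGroup.mk' ((Subgroup.zpowers (f t)).subgroupOf (Subgroup.centralizer ({f t} : Set G)))) := by
    rw [hS, ← CfsgLib.Balance.map_generalizedFittingSubgroup_equiv c, Subgroup.map_map, Subgroup.map_map]
    rfl
  exact ((c'.subgroupMap S).trans (MulEquiv.subgroupCongr hmap)).symm.trans e

/-- Every involution of `Q` not conjugate to `z` is conjugate to the one of the pair in the centralizer of `z`. -/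
theorem exists_conj_pair {z : G} {Q : Subgroup (Cz z)} [Q.Normal] {D : Data z Q} {C : Coords D} (P : Pair C)
    (t : G) (htQ : ∃ htc : t ∈ Cz z, (⟨t, htc⟩ : Cz z) ∈ Q) (ht2 : orderOf t = 2) (ht : ¬ IsConj z t) :
    ∃ k ∈ Cz z, k * P.tG * k⁻¹ = t := by
  obtain ⟨htc, hQ⟩ := htQ
  set q : Q := ⟨⟨t, htc⟩, hQ⟩ with hq
  have h2 : orderOf (q : Cz z) = 2 := by rw [← Subgroup.orderOf_coe]; exact ht2
  have hne : toG q ≠ z := fun e => ht (e ▸ IsConj.refl z)
  obtain ⟨hc, hAB⟩ := C.cases_of_involution h2 hne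
  have hqA : C.F.InA C.c (vec q) :=
    hAB.resolve_right fun hB => ht ((LargeFischerJ.isConj_iff_inB hc C).2 hB)
  obtain ⟨k, hk⟩ := Coords.conj_of_orbit (D := D) (x := P.t) (y := q) hc
    ((C.orbA _ _ (P.ht ▸ D1_inA C (by decide))).2 hqA)
  exact ⟨k, k.2, congrArg Subtype.val hk⟩

/-- The centralizer of every involution of `Q` not conjugate to `z`. -/
theorem concl_of_isOfLargeFischerType (rec : RecU62.{v}) {z : G} {Q : Subgroup (Cz z)} [Q.Normal]
    (hF : Cfsg.IsOfLargeFischerTypeAt z Q) (t : G) (htQ : ∃ htc : t ∈ Cz z, (⟨t, htc⟩ : Cz z) ∈ Q)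
    (ht2 : orderOf t = 2) (ht : ¬ IsConj z t) : ConclFi22 t := by
  obtain ⟨D⟩ := exists_data hF
  obtain ⟨C, T1, B, hA⟩ := LargeFischerJ.exists_anchor D
  obtain ⟨P⟩ := exists_pair C
  obtain ⟨k, -, hk⟩ := exists_conj_pair P t htQ ht2 ht
  have h0 : ConclFi22 P.tG := by intro hn; exact P.concl rec hA
  have h1 : ConclFi22 (MulAut.conj k P.tG) := by intro hn; exact ConclFi22.map h0 _
  rwa [MulAut.conj_apply, hk] at h1

end CfsgLib.LargeFischerE
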